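import Cfsg.Agent.MEleven.Local

/-!
# Recognising simplicity at order 7920 from the numbers of Sylow 5- and 11-subgroups

`card_orderOf` : `#{g | orderOf g = p} = n_p (p - 1)` when a Sylow `p`-subgroup has order `p`;
`isSimple_of_counts` : order 7920, `n₅ = 396`, `n₁₁ = 144` force simplicity.
-/

set_option autoImplicit false
set_option linter.style.haveILetI false

open Cfsg CfsgLib CfsgLib.SmallOrd

namespace CfsgLib.MEleven

universe u

variable {G : Type u} [Group G] [Finite G]

theorem card_orderOf {p : ℕ} [hp : Fact p.Prime] (h : ∀ P : Sylow p G, Nat.card P = p) :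
    Nat.card {g : G // orderOf g = p} = Nat.card (Sylow p G) * (p - 1) := by
  classical
  haveI := Fintype.ofFinite G
  haveI := Fintype.ofFinite (Sylow p G)
  have hcov : (Finset.univ.filter fun g : G => orderOf g = p) =
      Finset.univ.biUnion fun P : Sylow p G => (Finset.univ.filter fun g => g ∈ (P : Subgroup G)).erase 1 := by
    ext g
    simp only [Finset.mem_filter, Finset.mem_univ, true_and, Finset.mem_biUnion, Finset.mem_erase]
    constructor
    · intro hg
      obtain ⟨P, hP⟩ := exists_sylow_zpowers hg h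
      exact ⟨P, fun e => hp.out.ne_one (by rw [← hg, e, orderOf_one]), hP ▸ Subgroup.mem_zpowers g⟩
    · rintro ⟨P, hg1, hgP⟩
      have hd := orderOf_dvd_natCard (⟨g, hgP⟩ : (P : Subgroup G))
      rw [h P, Subgroup.orderOf_mk] at hd
      exact ((Nat.dvd_prime hp.out).1 hd).resolve_left fun e => hg1 (orderOf_eq_one_iff.1 e)
  have hdis : ((Finset.univ : Finset (Sylow p G)) : Set (Sylow p G)).PairwiseDisjoint
      fun P : Sylow p G => (Finset.univ.filter fun g => g ∈ (P : Subgroup G)).erase 1 := by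
    intro P _ Q _ hne
    rw [Function.onFun, Finset.disjoint_left]
    intro g hg hg'
    simp only [Finset.mem_erase, Finset.mem_filter, Finset.mem_univ, true_and] at hg hg'
    have ho : orderOf g = p := by
      have hd := orderOf_dvd_natCard (⟨g, hg.2⟩ : (P : Subgroup G))
      rw [h P, Subgroup.orderOf_mk] at hd
      exact ((Nat.dvd_prime hp.out).1 hd).resolve_left fun e => hg.1 (orderOf_eq_one_iff.1 e)
    have e1 := Subgroup.eq_of_le_of_card_ge (Subgroup.zpowers_le.2 hg.2) (by rw [h P, Nat.card_zpowers, ho])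
    have e2 := Subgroup.eq_of_le_of_card_ge (Subgroup.zpowers_le.2 hg'.2) (by rw [h Q, Nat.card_zpowers, ho])
    exact hne (Sylow.ext (e1.symm.trans e2))
  rw [Nat.card_eq_fintype_card (α := {g : G // orderOf g = p}), Fintype.card_subtype, hcov,
    Finset.card_biUnion hdis, Finset.sum_congr rfl (fun P _ => show _ = p - 1 from by
      rw [Finset.card_erase_of_mem (by simp [one_mem]), ← Fintype.card_subtype, ← Nat.card_eq_fintype_card]
      exact congrArg (· - 1) (h P)),
    Finset.sum_const, Finset.card_univ, ← Nat.card_eq_fintype_card, smul_eq_mul]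

theorem card_sylow_five (h : Nat.card G = 7920) [Fact (Nat.Prime 5)] (P : Sylow 5 G) : Nat.card P = 5 := by
  rw [sylow_card (k := 1) (m := 1584) (by rw [h]; norm_num) (by norm_num) P, pow_one]

theorem card_sylow_eleven (h : Nat.card G = 7920) [Fact (Nat.Prime 11)] (P : Sylow 11 G) : Nat.card P = 11 := by
  rw [sylow_card (k := 1) (m := 720) (by rw [h]; norm_num) (by norm_num) P, pow_one]

theorem sylow_count_mul {p : ℕ} [Fact p.Prime] (P : Sylow p G) :
    Nat.card (Subgroup.normalizer ((P : Subgroup G) : Set G)) * Nat.card (Sylow p G) = Nat.card G := by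
  rw [P.card_eq_index_normalizer]
  exact Subgroup.card_mul_index _

/-- A normal subgroup of order divisible by `p` contains every Sylow subgroup of order `p`. -/
theorem count_dvd_normal {p : ℕ} [hp : Fact p.Prime] (h : ∀ P : Sylow p G, Nat.card P = p) (N : Subgroup G)
    [N.Normal] (hd : p ∣ Nat.card N) : Nat.card (Sylow p G) ∣ Nat.card N := by
  have hle : ∀ P : Sylow p G, (P : Subgroup G) ≤ N := by
    intro P
    obtain ⟨⟨g, hgN⟩, hg⟩ := exists_prime_orderOf_dvd_card' (G := N) p hd
    rw [Subgroup.orderOf_mk] at hg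
    obtain ⟨Q, hQ⟩ := exists_sylow_zpowers hg h
    obtain ⟨c, hc⟩ := MulAction.exists_smul_eq G Q P
    have hQN : (Q : Subgroup G) ≤ N := hQ ▸ Subgroup.zpowers_le.2 hgN
    rw [← hc, Sylow.coe_subgroup_smul]
    rintro - ⟨z, hz, rfl⟩
    exact (inferInstance : N.Normal).conj_mem z (hQN hz) c
  refine Dvd.dvd.trans (dvd_of_eq ?_) (show Nat.card (Sylow p N) ∣ Nat.card N from ?_)
  · refine Nat.card_congr (Equiv.ofBijective (fun P => P.subtype (hle P)) ⟨fun P Q e => Sylow.subtype_injective e,
      fun R => ?_⟩)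
    obtain ⟨P, hP⟩ := R.exists_comap_subtype_eq
    exact ⟨P, Sylow.ext hP⟩
  · obtain ⟨R⟩ : Nonempty (Sylow p N) := inferInstance
    rw [R.card_eq_index_normalizer]
    exact Subgroup.index_dvd_card _

theorem isSimple_of_counts (h : Nat.card G = 7920) [Fact (Nat.Prime 5)] [Fact (Nat.Prime 11)]
    (h5 : Nat.card (Sylow 5 G) = 396) (h11 : Nat.card (Sylow 11 G) = 144) : IsSimpleGroup G := by
  classical
  haveI : Nontrivial G := Finite.one_lt_card_iff_nontrivial.1 (by rw [h]; norm_num)
  obtain ⟨P5⟩ : Nonempty (Sylow 5 G) := inferInstance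
  obtain ⟨P11⟩ : Nonempty (Sylow 11 G) := inferInstance
  have hN5 : Nat.card (Subgroup.normalizer ((P5 : Subgroup G) : Set G)) = 20 := by
    have := sylow_count_mul P5; rw [h5, h] at this; omega
  have hN11 : Nat.card (Subgroup.normalizer ((P11 : Subgroup G) : Set G)) = 55 := by
    have := sylow_count_mul P11; rw [h11, h] at this; omega
  refine ⟨fun N hN => ?_⟩
  by_contra hcon
  push Not at hcon
  obtain ⟨hbot, htop⟩ := hcon
  have hd : Nat.card N ∣ 7920 := h ▸ Subgroup.card_subgroup_dvd_card N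
  have hne1 : Nat.card N ≠ 1 := fun e => hbot (Subgroup.card_eq_one.1 e)
  have hnetop : Nat.card N ≠ 7920 := fun e => htop (Subgroup.eq_top_of_card_eq N (e.trans h.symm))
  -- an element of order five normalising something
  have key : ∀ {p : ℕ} [Fact p.Prime] (P : Sylow p G) (R : Subgroup G),
      Nat.card P = p → ¬ p ∣ (Nat.card R - 1) → (P : Subgroup G) ≤ Subgroup.normalizer (R : Set G) →
      ∃ r ∈ R, r ≠ 1 ∧ r ∈ Subgroup.normalizer ((P : Subgroup G) : Set G) := by
    intro p hp P R hcP hdvd hnorm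
    haveI := Fintype.ofFinite R
    haveI : Nontrivial (P : Subgroup G) := Finite.one_lt_card_iff_nontrivial.1 (by rw [hcP]; exact hp.out.one_lt)
    obtain ⟨⟨x, hxP⟩, hx1⟩ := exists_ne (1 : (P : Subgroup G))
    have hxo : orderOf x = p := by
      have := orderOf_dvd_natCard (⟨x, hxP⟩ : (P : Subgroup G))
      rw [hcP, Subgroup.orderOf_mk] at this
      exact ((Nat.dvd_prime hp.out).1 this).resolve_left fun e => hx1 (Subtype.ext (orderOf_eq_one_iff.1 e))
    have hx := Subgroup.mem_normalizer_iff.1 (hnorm hxP)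
    let a : Equiv.Perm {w : R // w ≠ 1} :=
      { toFun := fun w => ⟨⟨x * w.1 * x⁻¹, (hx _).1 w.1.2⟩, fun e => w.2 (by
          have e' : x * (w.1 : G) * x⁻¹ = 1 := congrArg Subtype.val e
          exact Subtype.ext (conj_eq_one_iff.1 e'))⟩
        invFun := fun w => ⟨⟨x⁻¹ * w.1 * x, by
            have := (hx (x⁻¹ * w.1 * x)).2
            exact this (by rw [show x * (x⁻¹ * w.1 * x) * x⁻¹ = w.1 by group]; exact w.1.2)⟩, fun e => w.2 (by
          have e' : x⁻¹ * (w.1 : G) * x = 1 := congrArg Subtype.val e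
          exact Subtype.ext (by
            have : (w.1 : G) = x * (x⁻¹ * w.1 * x) * x⁻¹ := by group
            rw [this, e']; simp))⟩
        left_inv := fun w => by ext; show x⁻¹ * (x * (w.1 : G) * x⁻¹) * x = w.1; group
        right_inv := fun w => by ext; show x * (x⁻¹ * (w.1 : G) * x) * x⁻¹ = w.1; group }
    have hiter : ∀ (k : ℕ) (w : {w : R // w ≠ 1}), (((a ^ k) w).1 : G) = x ^ k * w.1 * (x ^ k)⁻¹ := by
      intro k w
      induction k with
      | zero => simp
      | succ k ih =>
        rw [pow_succ', Equiv.Perm.mul_apply]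
        show x * (((a ^ k) w).1 : G) * x⁻¹ = _
        rw [ih, pow_succ']; group
    have hap : a ^ p ^ 1 = 1 := Equiv.ext fun w => by
      ext
      rw [hiter, pow_one, orderOf_dvd_iff_pow_eq_one.1 (dvd_of_eq hxo), one_mul, inv_one, mul_one]
      rfl
    obtain ⟨⟨⟨w, hw⟩, hw1⟩, hfix⟩ := Equiv.Perm.exists_fixed_point_of_prime
      (by rw [Fintype.card_subtype_compl, Fintype.card_subtype_eq, ← Nat.card_eq_fintype_card]; exact hdvd) hap
    refine ⟨w, hw, fun e => hw1 (Subtype.ext e), ?_⟩
    have hP : (P : Subgroup G) = Subgroup.zpowers x :=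
      (Subgroup.eq_of_le_of_card_ge (Subgroup.zpowers_le.2 hxP) (by rw [hcP, Nat.card_zpowers, hxo])).symm
    rw [hP]
    refine Subgroup.centralizer_le_normalizer _ ?_
    rw [centralizer_zpowers, Subgroup.mem_centralizer_singleton_iff]
    exact (mul_inv_eq_iff_eq_mul.1 (congrArg (fun z => (z.1 : G)) hfix)).symm
  by_cases d5 : 5 ∣ Nat.card N
  · have h396 := h5 ▸ count_dvd_normal (card_sylow_five h) N d5
    have h11N : 11 ∣ Nat.card N := (show 11 ∣ 396 by norm_num).trans h396
    have h144 := h11 ▸ count_dvd_normal (card_sylow_eleven h) N h11N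
    have := Nat.dvd_antisymm hd (Nat.Coprime.mul_dvd_of_dvd_of_dvd (by norm_num : Nat.Coprime 5 1584) d5
      (Nat.Coprime.mul_dvd_of_dvd_of_dvd (by norm_num : Nat.Coprime 11 144) h11N h144))
    exact hnetop this
  by_cases d3 : 3 ∣ Nat.card N
  · haveI : Fact (Nat.Prime 3) := ⟨by norm_num⟩
    -- the orbit of a Sylow 5-subgroup on the Sylow 3-subgroups of `N` has a fixed point
    have hP5 := card_sylow_five h P5
    let act : MulAction (P5 : Subgroup G) (Sylow 3 N) :=
      MulAction.compHom _ ((MulAut.conjNormal (H := N)).comp (P5 : Subgroup G).subtype)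
    have hpg : IsPGroup 5 (P5 : Subgroup G) := P5.isPGroup'
    have hn3 : ¬ 5 ∣ Nat.card (Sylow 3 N) := fun hd' => d5 (by
      obtain ⟨R⟩ : Nonempty (Sylow 3 N) := inferInstance
      refine hd'.trans ?_
      rw [R.card_eq_index_normalizer]
      exact Subgroup.index_dvd_card _)
    obtain ⟨R, hR⟩ := @IsPGroup.nonempty_fixed_point_of_prime_not_dvd_card 5 _ _ hpg _ (Sylow 3 N) act hn3
    have hnormR : (P5 : Subgroup G) ≤ Subgroup.normalizer (((R : Subgroup N).map N.subtype : Subgroup G) : Set G) := by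
      intro x hx
      have hfix : MulAut.conjNormal (H := N) x • R = R := hR ⟨x, hx⟩
      refine Subgroup.mem_normalizer_fintype fun z hz => ?_
      obtain ⟨r, hr, rfl⟩ := hz
      have hr' : MulAut.conjNormal (H := N) x r ∈ (R : Subgroup N) := by
        rw [← hfix, Sylow.pointwise_smul_def]
        exact ⟨r, hr, rfl⟩
      exact ⟨_, hr', MulAut.conjNormal_apply x r⟩
    have hRcard : ∃ k, Nat.card ((R : Subgroup N).map N.subtype) = 3 ^ k ∧ 1 ≤ k ∧ k ≤ 2 := by
      obtain ⟨k, hk⟩ := IsPGroup.iff_card.1 R.isPGroup'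
      rw [Nat.card_congr ((R : Subgroup N).equivMapOfInjective _ N.subtype_injective).symm.toEquiv]
      refine ⟨k, hk, ?_, ?_⟩
      · rcases Nat.eq_zero_or_pos k with e | e
        · exfalso
          have h3 := R.dvd_card_of_dvd_card d3
          rw [e] at hk
          rw [hk] at h3
          norm_num at h3
        · exact e
      · by_contra hgt
        have h27 : 3 ^ 3 ∣ 7920 :=
          ((pow_dvd_pow 3 (show 3 ≤ k by omega)).trans (hk ▸ Subgroup.card_subgroup_dvd_card _)).trans hd
        norm_num at h27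
    obtain ⟨k, hk, hk1, hk2⟩ := hRcard
    obtain ⟨r, hr, hr1, hrN⟩ := key P5 _ hP5 (by rw [hk]; interval_cases k <;> norm_num) hnormR
    have hdr : orderOf r ∣ 3 ^ k := by
      have := orderOf_dvd_natCard (⟨r, hr⟩ : (R : Subgroup N).map N.subtype)
      rwa [hk, Subgroup.orderOf_mk] at this
    have hd20 : orderOf r ∣ 20 := by
      have := orderOf_dvd_natCard (⟨r, hrN⟩ : Subgroup.normalizer ((P5 : Subgroup G) : Set G))
      rwa [hN5, Subgroup.orderOf_mk] at this
    have : orderOf r ∣ Nat.gcd (3 ^ k) 20 := Nat.dvd_gcd hdr hd20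
    exact hr1 (orderOf_eq_one_iff.1 (Nat.dvd_one.1 (this.trans (by interval_cases k <;> norm_num))))
  · by_cases d11 : 11 ∣ Nat.card N
    · exact d3 ((show 3 ∣ 144 by norm_num).trans (h11 ▸ count_dvd_normal (card_sylow_eleven h) N d11))
    have h16 : Nat.card N ∣ 16 := by
      have hcop : (Nat.card N).Coprime (9 * (5 * 11)) :=
        ((((Nat.Prime.coprime_iff_not_dvd (by norm_num)).2 d3).symm.pow_right 2)).mul_right
          ((((Nat.Prime.coprime_iff_not_dvd (by norm_num)).2 d5).symm).mul_right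
            ((Nat.Prime.coprime_iff_not_dvd (by norm_num)).2 d11).symm)
      exact hcop.dvd_of_dvd_mul_right (by rw [show 16 * (9 * (5 * 11)) = 7920 by norm_num]; exact hd)
    obtain ⟨j, hj, hcj⟩ := (Nat.dvd_prime_pow (show Nat.Prime 2 by norm_num)).1 (show Nat.card N ∣ 2 ^ 4 from h16)
    obtain ⟨r, hr, hr1, hrN⟩ := key P11 N (card_sylow_eleven h P11)
      (by rw [hcj]; interval_cases j <;> norm_num at hcj ⊢; exact hbot hcj)
      (by rw [Subgroup.normalizer_eq_top_iff.2 hN]; exact le_top)
    have hdr : orderOf r ∣ 2 ^ j := by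
      have := orderOf_dvd_natCard (⟨r, hr⟩ : N)
      rwa [hcj, Subgroup.orderOf_mk] at this
    have hd55 : orderOf r ∣ 55 := by
      have := orderOf_dvd_natCard (⟨r, hrN⟩ : Subgroup.normalizer ((P11 : Subgroup G) : Set G))
      rwa [hN11, Subgroup.orderOf_mk] at this
    have : orderOf r ∣ Nat.gcd (2 ^ j) 55 := Nat.dvd_gcd hdr hd55
    exact hr1 (orderOf_eq_one_iff.1 (Nat.dvd_one.1 (this.trans (by interval_cases j <;> norm_num))))

end CfsgLib.MEleven
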