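import Cfsg.Agent.SmallOrders.BlockData

/-!
# Values at an element of order 4 in a simple group

`four_value` : `χ f = v + w i` with `w` even and, for `d = χ 1`, `a = χ (f ^ 2)`,
`8 ∣ 2 (v + w) - (d + a)` (from the triviality of the determinant).
-/

set_option autoImplicit false
set_option linter.style.haveILetI false

open Cfsg CfsgLib CfsgLib.SmallOrd CfsgLib.CharBasics
open scoped ComplexConjugate

namespace CfsgLib.MEleven

universe u

variable {G : Type u} [Group G] [Finite G]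

theorem four_value [IsSimpleGroup G] (hG : ¬ IsMulCommutative G) (χ : IrrCharacter G) {f : G} (hf : f ^ 4 = 1) :
    ∃ v w a : ℤ, (χ : G → ℂ) f = (v : ℂ) + (w : ℂ) * Complex.I ∧ (χ : G → ℂ) (f ^ 2) = (a : ℂ) ∧ 2 ∣ w ∧
      8 ∣ 2 * (v + w) - ((charDegree (χ : G → ℂ) : ℤ) + a) := by
  classical
  haveI := Fintype.ofFinite G
  have hc := isCharacter_of_irr χ.2
  set d := charDegree (χ : G → ℂ)
  obtain ⟨lam, hl, hv⟩ := exists_eigen hc f
  have hpm : ∀ i, ∃ k : ℕ, k < 4 ∧ lam i = Complex.I ^ k := fun i => by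
    have h4 : lam i ^ 4 = 1 := by
      obtain ⟨m, hm⟩ := orderOf_dvd_iff_pow_eq_one.2 hf
      rw [hm, pow_mul, hl i, one_pow]
    exact ⟨_, (Complex.isPrimitiveRoot_I.eq_pow_of_pow_eq_one h4).choose_spec.1,
      (Complex.isPrimitiveRoot_I.eq_pow_of_pow_eq_one h4).choose_spec.2.symm⟩
  choose k hk4 hk using hpm
  set K := ∑ i, k i
  have hdet : Complex.I ^ K = 1 := by
    have hdet : detChar (χ : G → ℂ) f = ∏ i, lam i := DetTwist.detChar_eq_prod χ.2 lam hv
    obtain ⟨μ, hμ⟩ := Clifford.exists_detHom χ.2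
    have htriv : μ f = 1 := by
      have hle : commutator G ≤ μ.toHomUnits.ker := Abelianization.commutator_subset_ker _
      rcases (inferInstance : (commutator G).Normal).eq_bot_or_eq_top with h | h
      · exact absurd ⟨⟨fun a b => commutatorElement_eq_one_iff_mul_comm.1 (Subgroup.mem_bot.1
          (h ▸ Subgroup.commutator_mem_commutator (Subgroup.mem_top a) (Subgroup.mem_top b)))⟩⟩ hG
      · exact congrArg Units.val (MonoidHom.mem_ker.1 (hle (h ▸ Subgroup.mem_top f)))
    simp only [hμ] at hdet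
    rw [htriv, Finset.prod_congr rfl fun i _ => hk i, Finset.prod_pow_eq_pow_sum] at hdet
    exact hdet.symm
  obtain ⟨m, hm⟩ := (Complex.isPrimitiveRoot_I.pow_eq_one_iff_dvd K).1 hdet
  let rv : ℕ → ℤ := fun k => if k = 0 then 1 else if k = 2 then -1 else 0
  let iv : ℕ → ℤ := fun k => if k = 1 then 1 else if k = 3 then -1 else 0
  let sv : ℕ → ℤ := fun k => if k = 0 ∨ k = 2 then 1 else -1
  have hI : ∀ k, k < 4 → Complex.I ^ k = (rv k : ℂ) + (iv k : ℂ) * Complex.I ∧
      (Complex.I ^ k) ^ 2 = (sv k : ℂ) := by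
    intro k hk
    interval_cases k <;> norm_num [rv, iv, sv, pow_succ, Complex.I_mul_I]
  set v := ∑ i, rv (k i)
  set w := ∑ i, iv (k i)
  set a := ∑ i, sv (k i)
  refine ⟨v, w, a, ?_, ?_, ?_, ?_⟩
  · have h2 : (χ : G → ℂ) f = ∑ i, lam i := by simpa using hv 1
    rw [h2, Finset.sum_congr rfl fun i _ => (hk i).trans (hI _ (hk4 i)).1, Finset.sum_add_distrib,
      ← Finset.sum_mul, Int.cast_sum, Int.cast_sum]
  · rw [hv 2, Int.cast_sum, Finset.sum_congr rfl fun i _ => (congrArg (· ^ 2) (hk i)).trans (hI _ (hk4 i)).2]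
  all_goals
    obtain ⟨r, hr⟩ : ∃ r : ℤ, w = (K : ℤ) - 2 * r := by
      refine ⟨∑ i, (if k i = 2 then 1 else if k i = 3 then 2 else 0 : ℤ), ?_⟩
      simp only [K, w, Nat.cast_sum, Finset.mul_sum, ← Finset.sum_sub_distrib]
      refine Finset.sum_congr rfl fun i _ => ?_
      have := hk4 i
      interval_cases k i <;> norm_num [iv]
  · exact ⟨2 * m - r, by rw [hr, hm]; push_cast; ring⟩
  · obtain ⟨r', hr'⟩ : ∃ r' : ℤ, 2 * (v + w) - ((d : ℤ) + a) = 2 * (K : ℤ) - 8 * r' := by
      refine ⟨∑ i, (if k i = 2 then 1 else if k i = 3 then 1 else 0 : ℤ), ?_⟩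
      have hd : (d : ℤ) = ∑ _i : Fin d, (1 : ℤ) := by simp
      rw [hd]
      simp only [K, v, w, a, Nat.cast_sum, ← Finset.sum_add_distrib, Finset.mul_sum,
        ← Finset.sum_sub_distrib]
      rw [← Finset.sum_add_distrib, ← Finset.sum_sub_distrib]
      refine Finset.sum_congr rfl fun i _ => ?_
      have := hk4 i
      interval_cases k i <;> norm_num [rv, iv, sv]
    exact ⟨(m : ℤ) - r', by rw [hr', hm]; push_cast; ring⟩

end CfsgLib.MEleven
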