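import Cfsg.Agent.MEleven.Invol
import Cfsg.Agent.MEleven.FourValue

/-!
# Elements of order 4 and centralisers of elements of order 3 in a simple group of order 7920

`no_four` : no element of order 3 centralises a subgroup of order 4;
`four`    : an element of order 4 has centraliser of order 8, one character of degree 10 takes the value 2 at
            all elements of order 2 and 4, and there is one class of elements of order 4.
-/

set_option autoImplicit false
set_option linter.style.haveILetI false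

open Cfsg CfsgLib CfsgLib.SmallOrd CfsgLib.CharBasics
open scoped ComplexConjugate

namespace CfsgLib.MEleven

universe u

variable {G : Type u} [Group G] [Finite G] [IsSimpleGroup G]

omit [Finite G] [IsSimpleGroup G] in
theorem orderOf_of_isConj {a b : G} (h : IsConj a b) : orderOf a = orderOf b := by
  obtain ⟨c, rfl⟩ := isConj_iff.1 h
  exact (orderOf_injective (MulAut.conj c).toMonoidHom (MulEquiv.injective _) a).symm

theorem exists_chi (hG : Nat.card G = 7920) (D : Data G) {s : G} (hs : orderOf s = 2) :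
    ∃ χ ψ ψ' : IrrCharacter G, χ ≠ ψ ∧ χ ≠ ψ' ∧ ψ ≠ ψ' ∧ (∀ ξ, ξ ∈ D.T ↔ ξ = χ ∨ ξ = ψ ∨ ξ = ψ') ∧
      (χ : G → ℂ) s = 2 ∧ (ψ : G → ℂ) s = -2 ∧ (ψ' : G → ℂ) s = -2 := by
  classical
  obtain ⟨-, -, -, -, -, -, -, hS, hT⟩ := invol hG D hs
  obtain ⟨x, y, z, hxy, hxz, hyz, hT'⟩ := Finset.card_eq_three.1 D.hT
  rw [hT', Finset.sum_insert (by simp [hxy, hxz]), Finset.sum_pair hyz] at hS
  have hx := hT x (by rw [hT']; simp)
  have hy := hT y (by rw [hT']; simp)
  have hz := hT z (by rw [hT']; simp)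
  have hmem : ∀ ξ, ξ ∈ D.T ↔ ξ = x ∨ ξ = y ∨ ξ = z := fun ξ => by rw [hT']; simp
  rcases hx with hx | hx <;> rcases hy with hy | hy <;> rcases hz with hz | hz <;> rw [hx, hy, hz] at hS <;>
    norm_num at hS
  · exact ⟨x, y, z, hxy, hxz, hyz, hmem, hx, hy, hz⟩
  · exact ⟨y, x, z, hxy.symm, hyz, hxz, fun ξ => by rw [hmem]; tauto, hy, hx, hz⟩
  · exact ⟨z, x, y, hxz.symm, hyz.symm, hxy, fun ξ => by rw [hmem]; tauto, hz, hx, hy⟩

theorem arith4 : ∀ a ∈ ([-5, -1, 3] : List ℤ), ∀ e ∈ ([-4, 0, 4] : List ℤ), ∀ r ∈ ([-6, -2, 2, 6] : List ℤ),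
    (1 + r * r + a * a + (1 + a + 2 * e) * (1 + a + 2 * e) + 2 * (e * e) +
        (r + 2 * a + 3 * e + 1) * (r + 2 * a + 3 * e + 1) + (r + 2 + 3 * a + 5 * e) * (r + 2 + 3 * a + 5 * e) +
        2 * ((1 + a + e) * (1 + a + e)) ≤ 48) →
      a = -1 ∧ e = 0 ∧ (r = 2 ∨ r = -2) := by
  decide +kernel

theorem arith4' : ∀ p ∈ ([-4, -2, 0, 2, 4] : List ℤ), ∀ w ∈ ([-4, -2, 0, 2, 4] : List ℤ), ∀ r ∈ ([2, -2] : List ℤ),
    ∀ n ∈ ([4, 8, 12, 16, 24, 48] : List ℤ),
    4 ∣ p + w → 3 + r * r + (r - 1) * (r - 1) + (1 - r) * (1 - r) - 1 + 2 * (p * p) + 2 * (w * w) = n →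
      (n = 8 ∧ r = 2 ∧ p = 0 ∧ w = 0) ∨ n = 24 := by
  decide +kernel

omit [IsSimpleGroup G] in
theorem real_val {z : ℂ} {v w : ℤ} (h : conj z = z) (hz : z = (v : ℂ) + (w : ℂ) * Complex.I) : w = 0 := by
  have h' := congrArg Complex.im h
  rw [Complex.conj_im, hz] at h'
  simp at h'
  have : (w : ℝ) = 0 := by linarith
  exact_mod_cast this

set_option maxHeartbeats 1000000 in
theorem four_pre (hG : Nat.card G = 7920) (D : Data G) {f : G} (hf : orderOf f = 4)
    {χ ψ ψ' : IrrCharacter G} (h1 : χ ≠ ψ) (h2 : χ ≠ ψ') (h3 : ψ ≠ ψ')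
    (hmem : ∀ ξ, ξ ∈ D.T ↔ ξ = χ ∨ ξ = ψ ∨ ξ = ψ') (hχ : (χ : G → ℂ) (f ^ 2) = 2)
    (hψ : (ψ : G → ℂ) (f ^ 2) = -2) (hψ' : (ψ' : G → ℂ) (f ^ 2) = -2) :
    Nat.card (Subgroup.centralizer ({f} : Set G)) = 24 ∨
      (Nat.card (Subgroup.centralizer ({f} : Set G)) = 8 ∧ (χ : G → ℂ) f = 2 ∧ (ψ : G → ℂ) f = 0 ∧
        (ψ' : G → ℂ) f = 0 ∧ (D.c11 : G → ℂ) f = -1 ∧ (D.c44 : G → ℂ) f = 0 ∧ (D.c45 : G → ℂ) f = 1 ∧
        (D.c55 : G → ℂ) f = -1 ∧ (D.θ : G → ℂ) f = 0 ∧ (D.θ' : G → ℂ) f = 0) := by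
  classical
  haveI := Fintype.ofFinite G
  have hnc : ¬ IsMulCommutative G := not_comm (by rw [hG]; norm_num)
  have hne : ∀ {χ : IrrCharacter G}, deg χ ≠ 1 → χ ≠ oneChar := fun h e => h (by rw [e, deg_one])
  have hf4 : f ^ 4 = 1 := orderOf_dvd_iff_pow_eq_one.1 (dvd_of_eq hf)
  have hf1 : f ≠ 1 := fun e => by rw [e, orderOf_one] at hf; norm_num at hf
  have hs : orderOf (f ^ 2) = 2 := by rw [orderOf_pow, hf]; rfl
  have hf11 : ¬ 11 ∣ orderOf f := by rw [hf]; norm_num
  have hf5 : ¬ 5 ∣ orderOf f := by rw [hf]; norm_num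
  have hfs : ¬ IsConj f (f ^ 2) := fun h => by
    have := orderOf_of_isConj h
    rw [hf, hs] at this
    norm_num at this
  obtain ⟨hns, sa, sb, sc, sd, se, se', -, -⟩ := invol hG D hs
  have val : ∀ (ξ : IrrCharacter G) (d : ℕ) (a₀ : ℤ), deg ξ = d → (ξ : G → ℂ) (f ^ 2) = (a₀ : ℂ) →
      ∃ v w : ℤ, (ξ : G → ℂ) f = (v : ℂ) + (w : ℂ) * Complex.I ∧ 2 ∣ w ∧ 8 ∣ 2 * (v + w) - ((d : ℤ) + a₀) := by
    intro ξ d a₀ hd ha₀
    obtain ⟨v, w, a, hv, ha, hw, h8⟩ := four_value hnc ξ hf4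
    rw [ha, Int.cast_inj] at ha₀
    subst ha₀ hd
    exact ⟨v, w, hv, hw, h8⟩
  have hT : deg χ = 10 ∧ deg ψ = 10 ∧ deg ψ' = 10 :=
    ⟨(D.dT _).1 ((hmem _).2 (Or.inl rfl)), (D.dT _).1 ((hmem _).2 (Or.inr (Or.inl rfl))),
      (D.dT _).1 ((hmem _).2 (Or.inr (Or.inr rfl)))⟩
  obtain ⟨a, wa, hva, -, ha8⟩ := val D.c11 11 3 D.d11 (by rw [sa]; norm_num)
  obtain ⟨b, wb, hvb, -, hb8⟩ := val D.c44 44 4 D.d44 (by rw [sb]; norm_num)
  obtain ⟨c, wc, hvc, -, hc8⟩ := val D.c45 45 (-3) D.d45 (by rw [sc]; norm_num)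
  obtain ⟨d, wd, hvd, -, hd8⟩ := val D.c55 55 (-1) D.d55 (by rw [sd]; norm_num)
  obtain ⟨e, we, hve, -, he8⟩ := val D.θ 16 0 D.dθ (by rw [se]; norm_num)
  obtain ⟨r, wr, hvr, -, hr8⟩ := val χ 10 2 hT.1 (by rw [hχ]; norm_num)
  obtain ⟨p, w, hvp, hw2, hp8⟩ := val ψ 10 (-2) hT.2.1 (by rw [hψ]; norm_num)
  obtain ⟨p', w', hvp', hw2', hp8'⟩ := val ψ' 10 (-2) hT.2.2 (by rw [hψ']; norm_num)
  have hreal : conj ((χ : G → ℂ) f) = (χ : G → ℂ) f := by
    have hst : starChar χ = χ := by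
      have hm : starChar χ ∈ D.T := by rw [D.dT, deg_starChar, hT.1]
      rcases (hmem _).1 hm with g | g | g
      · exact g
      all_goals
        exfalso
        have hval := starChar_apply χ (f ^ 2)
        rw [g, hχ, map_ofNat] at hval
        first | (rw [hψ] at hval; norm_num at hval) | (rw [hψ'] at hval; norm_num at hval)
    rw [← starChar_apply, hst]
  obtain rfl := real_val hreal hvr
  obtain rfl := real_val (D.real_11 f) hva
  obtain rfl := real_val (D.real_44 f) hvb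
  obtain rfl := real_val (D.real_45 f) hvc
  obtain rfl := real_val (D.real_55 f) hvd
  obtain rfl := real_val (D.real_θ f hf11) hve
  simp only [Int.cast_zero, zero_mul, add_zero] at hva hvb hvc hvd hve hvr
  have hve' : (D.θ' : G → ℂ) f = (e : ℂ) := (D.agree f hf11).trans hve
  have hsum : ∀ F : IrrCharacter G → ℂ, ∑ ξ ∈ D.T, F ξ = F χ + F ψ + F ψ' := by
    intro F
    rw [show D.T = {χ, ψ, ψ'} from Finset.ext fun ξ => by rw [hmem]; simp,
      Finset.sum_insert (by simp [h1, h2]), Finset.sum_pair h3]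
    ring
  have eA : b = 1 + a + 2 * e := by
    have h := D.rel5 f hf5
    rw [hva, hvb, hve, hve'] at h
    have : ((1 + a - b + 2 * e : ℤ) : ℂ) = 0 := by push_cast; linear_combination h
    rw [Int.cast_eq_zero] at this
    omega
  have hBC := D.rel11 f hf11
  rw [hvc, hsum, hvr, hvp, hvp', hve] at hBC
  have eB : c = r + p + p' + e - 1 := by
    have h := congrArg Complex.re hBC
    simp at h
    have : ((1 + c - (r + (p + p')) - e : ℤ) : ℝ) = 0 := by push_cast; linarith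
    rw [Int.cast_eq_zero] at this
    omega
  have eW : w' = -w := by
    have h := congrArg Complex.im hBC
    simp at h
    have : ((w + w' : ℤ) : ℝ) = 0 := by push_cast; linarith
    rw [Int.cast_eq_zero] at this
    omega
  subst eW
  have eD : 1 + 11 * a + 44 * b + 45 * c + 55 * d + 32 * e + 10 * (r + p + p') = 0 := by
    have h := deg_rel D hf1
    rw [hva, hvb, hvc, hvd, hve, hve', hsum, hvr, hvp, hvp'] at h
    have h' := congrArg Complex.re h
    simp at h'
    have : ((1 + 11 * a + 44 * b + 45 * c + 55 * d + 32 * e + 10 * (r + p + p') : ℤ) : ℝ) = 0 := by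
      push_cast; linarith
    exact_mod_cast this
  have eS : 1 + 2 * r - 2 * (p + p') + 3 * a + 4 * b - 3 * c - d = 0 := by
    have h := col D f (f ^ 2)
    rw [if_neg hfs, hsum, hva, hvb, hvc, hvd, hve, hve', hvr, hvp, hvp', sa, sb, sc, sd, se, se', hχ, hψ, hψ'] at h
    have h' := congrArg Complex.re h
    simp at h'
    have : ((1 + 2 * r - 2 * (p + p') + 3 * a + 4 * b - 3 * c - d : ℤ) : ℝ) = 0 := by push_cast; linarith
    exact_mod_cast this
  set n := Nat.card (Subgroup.centralizer ({f} : Set G)) with hn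
  have eN : 1 + r * r + a * a + b * b + 2 * (e * e) + c * c + d * d + p * p + p' * p' + 2 * (w * w) = (n : ℤ) := by
    have h := col D f f
    rw [if_pos (IsConj.refl f), hsum, hva, hvb, hvc, hvd, hve, hve', hvr, hvp, hvp', ← hn] at h
    have h' := congrArg Complex.re h
    simp at h'
    have : ((1 + r * r + a * a + b * b + 2 * (e * e) + c * c + d * d + p * p + p' * p' + 2 * (w * w) : ℤ) : ℝ) =
        ((n : ℤ) : ℝ) := by
      push_cast; linarith
    exact_mod_cast this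
  have hn48 : n ∣ 48 := by
    rw [← hns]
    exact Subgroup.card_dvd_of_le fun z hz => by
      rw [Subgroup.mem_centralizer_singleton_iff] at hz ⊢
      exact (Commute.pow_right hz 2).eq
  have h4n : 4 ∣ n := by
    rw [← hf, ← Nat.card_zpowers]
    exact Subgroup.card_dvd_of_le (Subgroup.zpowers_le.2 (by rw [Subgroup.mem_centralizer_singleton_iff]))
  have hnle : (n : ℤ) ≤ 48 := by exact_mod_cast Nat.le_of_dvd (by norm_num) hn48
  have eP : p + p' = 2 * (1 + a + e) := by omega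
  have ha : a ∈ ([-5, -1, 3] : List ℤ) := by
    have : a ≤ 6 ∧ -6 ≤ a := ⟨by nlinarith, by nlinarith⟩
    simp only [List.mem_cons, List.not_mem_nil, or_false]
    omega
  have he : e ∈ ([-4, 0, 4] : List ℤ) := by
    have : e ≤ 4 ∧ -4 ≤ e := ⟨by nlinarith, by nlinarith⟩
    simp only [List.mem_cons, List.not_mem_nil, or_false]
    omega
  have hr : r ∈ ([-6, -2, 2, 6] : List ℤ) := by
    have : r ≤ 6 ∧ -6 ≤ r := ⟨by nlinarith, by nlinarith⟩
    simp only [List.mem_cons, List.not_mem_nil, or_false]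
    omega
  obtain ⟨rfl, rfl, hr2⟩ := arith4 a ha e he r hr (by
    have h0 : 2 * ((1 + a + e) * (1 + a + e)) ≤ p * p + p' * p' := by
      rw [show p' = 2 * (1 + a + e) - p by omega]; nlinarith [sq_nonneg (p - (1 + a + e))]
    have hcv : c = r + 2 * a + 3 * e + 1 := by omega
    have hdv : d = -(r + 2 + 3 * a + 5 * e) := by omega
    rw [eA, hcv, hdv] at eN
    nlinarith)
  obtain rfl : p' = -p := by omega
  obtain rfl : b = 0 := by omega
  obtain rfl : c = r - 1 := by omega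
  obtain rfl : d = 1 - r := by omega
  have hpw : p ∈ ([-4, -2, 0, 2, 4] : List ℤ) ∧ w ∈ ([-4, -2, 0, 2, 4] : List ℤ) := by
    have : p ≤ 4 ∧ -4 ≤ p := ⟨by nlinarith, by nlinarith⟩
    have : w ≤ 4 ∧ -4 ≤ w := ⟨by nlinarith, by nlinarith⟩
    simp only [List.mem_cons, List.not_mem_nil, or_false]
    omega
  have hnm : (n : ℤ) ∈ ([4, 8, 12, 16, 24, 48] : List ℤ) := by
    have hm : n ∈ [4, 8, 12, 16, 24, 48] := by
      have h := (List.mem_filter (p := fun n => decide (n ∣ 48 ∧ 4 ∣ n))).2 ⟨List.mem_range.2 (show n < 49 by omega),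
        show decide (n ∣ 48 ∧ 4 ∣ n) = true by simpa using ⟨hn48, h4n⟩⟩
      rwa [show (List.range 49).filter (fun n => decide (n ∣ 48 ∧ 4 ∣ n)) = [4, 8, 12, 16, 24, 48] by decide +kernel] at h
    simp only [List.mem_cons, List.not_mem_nil, or_false] at hm ⊢
    omega
  rcases arith4' p hpw.1 w hpw.2 r (by rcases hr2 with g | g <;> simp [g]) n hnm (by omega) (by linarith) with
    ⟨hn8, rfl, rfl, rfl⟩ | h24
  · right
    refine ⟨by exact_mod_cast hn8, by rw [hvr]; norm_num, by rw [hvp]; simp, by rw [hvp']; simp,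
      by rw [hva]; norm_num, by rw [hvb]; norm_num, by rw [hvc]; norm_num, by rw [hvd]; norm_num,
      by rw [hve]; norm_num, by rw [hve']; norm_num⟩
  · left; exact_mod_cast h24

omit [IsSimpleGroup G] in
theorem class_le {g : G} {k : ℕ} (hk : k ≤ Nat.card (Subgroup.centralizer ({g} : Set G))) :
    Nat.card (ConjClasses.mk g).carrier * k ≤ Nat.card G := by
  have h1 : Nat.card (ConjClasses.mk g).carrier = (Subgroup.centralizer ({g} : Set G)).index := by
    rw [← card_conjClass]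
    exact Nat.card_congr (Equiv.subtypeEquivRight fun x => by
      rw [ConjClasses.mem_carrier_iff_mk_eq, ConjClasses.mk_eq_mk_iff_isConj]
      exact ⟨IsConj.symm, IsConj.symm⟩)
  rw [h1, ← Subgroup.card_mul_index (Subgroup.centralizer ({g} : Set G)), mul_comm _ k]
  exact Nat.mul_le_mul_right _ hk

theorem eight_le (hG : Nat.card G = 7920) (D : Data G) {f : G} (hf : orderOf f = 4) :
    8 ≤ Nat.card (Subgroup.centralizer ({f} : Set G)) := by
  obtain ⟨χ, ψ, ψ', h1, h2, h3, hmem, a, b, c⟩ :=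
    exists_chi hG D (s := f ^ 2) (by rw [orderOf_pow, hf]; rfl)
  rcases four_pre hG D hf h1 h2 h3 hmem a b c with h | h <;> omega

omit [Finite G] [IsSimpleGroup G] in
theorem mem_cent_self (g : G) : g ∈ Subgroup.centralizer ({g} : Set G) :=
  Subgroup.mem_centralizer_singleton_iff.2 rfl

theorem not_isConj_inv_eleven (hG : Nat.card G = 7920) {y : G} (hy : orderOf y = 11) : ¬ IsConj y y⁻¹ := by
  intro h
  haveI : Fact (Nat.Prime 11) := ⟨by norm_num⟩
  obtain ⟨g, hg⟩ := isConj_iff.1 h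
  obtain ⟨P, hP⟩ := exists_sylow_zpowers hy fun P => (eleven hG P).1
  obtain ⟨hc, hC, he⟩ := eleven hG P
  have hN : Nat.card (Subgroup.normalizer ((P : Subgroup G) : Set G)) = 55 := by
    rw [hC] at he
    have h := Subgroup.card_mul_index ((P : Subgroup G).subgroupOf (Subgroup.normalizer ((P : Subgroup G) : Set G)))
    rw [Nat.card_congr (Subgroup.subgroupOfEquivOfLe Subgroup.le_normalizer).toEquiv, hc] at h
    rw [Subgroup.relIndex] at he
    rw [he] at h
    exact h.symm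
  have hgN : g ∈ Subgroup.normalizer ((P : Subgroup G) : Set G) := by
    rw [hP]
    refine Subgroup.mem_normalizer_fintype fun z hz => ?_
    obtain ⟨k, rfl⟩ := Subgroup.mem_zpowers_iff.1 hz
    show g * y ^ k * g⁻¹ ∈ Subgroup.zpowers y
    rw [← conj_zpow, hg]
    exact Subgroup.zpow_mem _ (inv_mem (Subgroup.mem_zpowers y)) k
  have h55 : g ^ 55 = 1 := by
    refine orderOf_dvd_iff_pow_eq_one.1 ?_
    have := orderOf_dvd_natCard (⟨g, hgN⟩ : Subgroup.normalizer ((P : Subgroup G) : Set G))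
    rwa [hN, Subgroup.orderOf_mk] at this
  have hodd : ∀ k : ℕ, g ^ (2 * k + 1) * y * (g ^ (2 * k + 1))⁻¹ = y⁻¹ := by
    intro k
    induction k with
    | zero => simpa using hg
    | succ k ih =>
      rw [show 2 * (k + 1) + 1 = 2 + (2 * k + 1) by ring, pow_add,
        show g ^ 2 * g ^ (2 * k + 1) * y * (g ^ 2 * g ^ (2 * k + 1))⁻¹ =
          g * (g * (g ^ (2 * k + 1) * y * (g ^ (2 * k + 1))⁻¹) * g⁻¹) * g⁻¹ by group, ih,
        ← conj_inv, hg, inv_inv, hg]
  have := hodd 27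
  rw [show 2 * 27 + 1 = 55 from rfl, h55, one_mul, inv_one, mul_one] at this
  have h2 : orderOf y ∣ 2 := orderOf_dvd_iff_pow_eq_one.2 (by rw [sq]; nth_rw 2 [this]; exact mul_inv_cancel y)
  rw [hy] at h2
  norm_num at h2

set_option maxHeartbeats 1000000 in
/-- No element of order 3 centralises a subgroup of order 4. -/
theorem no_four (hG : Nat.card G = 7920) (D : Data G) {u : G} (hu : orderOf u = 3) (K : Subgroup G)
    (hK : Nat.card K = 4) (hle : K ≤ Subgroup.centralizer ({u} : Set G)) : False := by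
  classical
  haveI := Fintype.ofFinite G
  haveI := Fintype.ofFinite (ConjClasses G)
  haveI : Fact (Nat.Prime 2) := ⟨by norm_num⟩
  obtain ⟨⟨s, hsK⟩, hs'⟩ := exists_prime_orderOf_dvd_card' (G := K) 2 (by rw [hK]; norm_num)
  rw [Subgroup.orderOf_mk] at hs'
  haveI : IsMulCommutative K := ⟨⟨IsPGroup.commutative_of_card_eq_prime_sq (p := 2) (by rw [hK]; norm_num)⟩⟩
  have hcom : Commute s u := Subgroup.mem_centralizer_singleton_iff.1 (hle hsK)
  have hsu : orderOf (s * u) = 6 := by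
    rw [hcom.orderOf_mul_eq_mul_orderOf_of_coprime (by rw [hs', hu]; norm_num), hs', hu]
  have hu36 : 36 ≤ Nat.card (Subgroup.centralizer ({u} : Set G)) := by
    refine Nat.le_of_dvd Nat.card_pos ?_
    have h4 := Subgroup.card_dvd_of_le hle
    rw [hK] at h4
    exact Nat.Coprime.mul_dvd_of_dvd_of_dvd (by norm_num : Nat.Coprime 4 9) h4 (nine_dvd_cent hG hu)
  have hsu12 : 12 ≤ Nat.card (Subgroup.centralizer ({s * u} : Set G)) := by
    refine Nat.le_of_dvd Nat.card_pos ?_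
    have hK' : K ≤ Subgroup.centralizer ({s * u} : Set G) := fun k hk => by
      have h1 : Commute k u := Subgroup.mem_centralizer_singleton_iff.1 (hle hk)
      have h2 : Commute k s :=
        Subgroup.mem_centralizer_singleton_iff.1 (le_cent_of_comm inferInstance hsK hk)
      rw [Subgroup.mem_centralizer_singleton_iff]
      exact (h2.mul_right h1).eq
    have h4 := Subgroup.card_dvd_of_le hK'
    rw [hK] at h4
    have h3 : 3 ∣ Nat.card (Subgroup.centralizer ({s * u} : Set G)) := by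
      rw [← hu, ← Nat.card_zpowers]
      refine Subgroup.card_dvd_of_le (Subgroup.zpowers_le.2 ?_)
      rw [Subgroup.mem_centralizer_singleton_iff]
      exact (hcom.symm.mul_right (Commute.refl u)).eq
    exact Nat.Coprime.mul_dvd_of_dvd_of_dvd (by norm_num : Nat.Coprime 4 3) h4 h3
  haveI : Fact (Nat.Prime 5) := ⟨by norm_num⟩
  haveI : Fact (Nat.Prime 11) := ⟨by norm_num⟩
  obtain ⟨P⟩ : Nonempty (Sylow 5 G) := inferInstance
  obtain ⟨f, -, hf⟩ := exists_four hG P
  obtain ⟨x, hx⟩ : ∃ x : G, orderOf x = 5 := exists_prime_orderOf_dvd_card' 5 (by rw [hG]; norm_num)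
  obtain ⟨y, hy⟩ : ∃ y : G, orderOf y = 11 := exists_prime_orderOf_dvd_card' 11 (by rw [hG]; norm_num)
  let W : List (G × ℕ) := [(1, 7920), (s, 48), (x, 5), (y, 11), (y⁻¹, 11), (f, 8), (u, 36), (s * u, 12)]
  have hyi : orderOf y⁻¹ = 11 := by rw [orderOf_inv, hy]
  have hW : ∀ z ∈ W, z.2 ≤ Nat.card (Subgroup.centralizer ({z.1} : Set G)) := by
    intro z hz
    simp only [W, List.mem_cons, List.not_mem_nil, or_false] at hz
    rcases hz with rfl | rfl | rfl | rfl | rfl | rfl | rfl | rfl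
    · rw [← hG]
      exact le_of_eq (Nat.card_congr (Equiv.subtypeUnivEquiv fun z => by
        simp [Subgroup.mem_centralizer_singleton_iff]).symm)
    · exact le_of_eq (invol hG D hs').1.symm
    · exact le_of_eq (by rw [cent_five hG hx, Nat.card_zpowers, hx])
    · exact le_of_eq (by rw [cent_eleven hG hy, Nat.card_zpowers, hy])
    · exact le_of_eq (by rw [cent_eleven hG hyi, Nat.card_zpowers, hyi])
    · exact eight_le hG D hf
    · exact hu36
    · exact hsu12
  let S : List (ConjClasses G) := W.map fun z => ConjClasses.mk z.1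
  have hSn : S.Nodup := by
    have ho : ∀ {a b : G}, orderOf a ≠ orderOf b → ConjClasses.mk a ≠ ConjClasses.mk b := fun h e =>
      h (orderOf_of_isConj (ConjClasses.mk_eq_mk_iff_isConj.1 e))
    have hyy : ConjClasses.mk y ≠ ConjClasses.mk y⁻¹ := fun e =>
      not_isConj_inv_eleven hG hy (ConjClasses.mk_eq_mk_iff_isConj.1 e)
    simp only [S, W, List.map_cons, List.map_nil, List.nodup_cons, List.mem_cons, List.not_mem_nil, or_false,
      not_or, List.nodup_nil, and_true, not_false_eq_true]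
    and_intros
    all_goals first
      | exact hyy
      | exact ho (by rw [orderOf_one] at *; omega)
      | exact ho (by omega)
      | exact ho (by rw [orderOf_one]; omega)
  have htot : ∑ C : ConjClasses G, Nat.card C.carrier = 7920 := by
    rw [← hG, Nat.card_eq_fintype_card (α := G), ← sum_conjClasses_card_eq_card]
    exact Finset.sum_congr rfl fun C _ => by rw [Nat.card_coe_set_eq, Set.ncard_eq_toFinset_card']
  have hten : Fintype.card (ConjClasses G) = 10 := by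
    rw [← Nat.card_eq_fintype_card, ← card_irr, (Cfsg.Agent.S4429.result hG).1]
  have hrest : ∀ C : ConjClasses G, C ∉ S.toFinset → Nat.card C.carrier ≤ 1320 := by
    intro C
    induction C using Quotient.inductionOn with
    | h g =>
    intro hC
    change ConjClasses.mk g ∉ _ at hC
    have hmem : ∀ {z : G} {k : ℕ}, (z, k) ∈ W → ¬ IsConj g z := fun {z k} hz hc => hC (by
      rw [List.mem_toFinset, ConjClasses.mk_eq_mk_iff_isConj.2 hc]
      exact List.mem_map.2 ⟨(z, k), hz, rfl⟩)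
    have h1 : orderOf g ≠ 1 := fun e => by
      rw [orderOf_eq_one_iff] at e
      exact hmem (z := 1) (k := 7920) (by simp [W]) (e ▸ IsConj.refl _)
    have h2 : orderOf g ≠ 2 := fun e => hmem (z := s) (k := 48) (by simp [W]) (isConj_invol hG D e hs')
    have h5 : orderOf g ≠ 5 := fun e => hmem (z := x) (k := 5) (by simp [W]) (isConj_five hG D e hx)
    have hpos := orderOf_pos g
    have h6 : 6 ≤ Nat.card (Subgroup.centralizer ({g} : Set G)) := by
      rcases (show orderOf g = 3 ∨ orderOf g = 4 ∨ 6 ≤ orderOf g by omega) with e | e | e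
      · have := Nat.le_of_dvd Nat.card_pos (nine_dvd_cent hG e)
        omega
      · have := eight_le hG D e
        omega
      · have := Subgroup.card_le_of_le (Subgroup.zpowers_le.2 (mem_cent_self g))
        rw [Nat.card_zpowers] at this
        omega
    have h := class_le h6
    rw [hG] at h
    change Nat.card (ConjClasses.mk g).carrier ≤ 1320
    omega
  have hsplit := Finset.sum_add_sum_compl S.toFinset fun C : ConjClasses G => Nat.card C.carrier
  rw [htot] at hsplit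
  have hlen : S.toFinset.card = 8 := by
    rw [List.toFinset_card_of_nodup hSn]; rfl
  have hcompl : ∑ C ∈ S.toFinsetᶜ, Nat.card C.carrier ≤ 2640 := by
    have := Finset.sum_le_card_nsmul S.toFinsetᶜ (fun C => Nat.card C.carrier) 1320
      (fun C hC => hrest C (Finset.mem_compl.1 hC))
    rw [Finset.card_compl, hten, hlen, smul_eq_mul] at this
    omega
  have hmain : ∑ C ∈ S.toFinset, Nat.card C.carrier ≤ 5060 := by
    rw [List.sum_toFinset _ hSn]
    have b : ∀ z ∈ W, Nat.card (ConjClasses.mk z.1).carrier * z.2 ≤ 7920 := fun z hz => hG ▸ class_le (hW z hz)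
    simp only [W, List.forall_mem_cons] at b
    obtain ⟨b1, b2, b3, b4, b5, b6, b7, b8, -⟩ := b
    simp only [S, W, List.map_cons, List.map_nil, List.sum_cons, List.sum_nil]
    omega
  omega

/-- The column of an element of order 4. -/
theorem four (hG : Nat.card G = 7920) (D : Data G) {f : G} (hf : orderOf f = 4)
    {χ ψ ψ' : IrrCharacter G} (h1 : χ ≠ ψ) (h2 : χ ≠ ψ') (h3 : ψ ≠ ψ')
    (hmem : ∀ ξ, ξ ∈ D.T ↔ ξ = χ ∨ ξ = ψ ∨ ξ = ψ') (hχ : (χ : G → ℂ) (f ^ 2) = 2)
    (hψ : (ψ : G → ℂ) (f ^ 2) = -2) (hψ' : (ψ' : G → ℂ) (f ^ 2) = -2) :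
    Nat.card (Subgroup.centralizer ({f} : Set G)) = 8 ∧ (χ : G → ℂ) f = 2 ∧ (ψ : G → ℂ) f = 0 ∧
      (ψ' : G → ℂ) f = 0 ∧ (D.c11 : G → ℂ) f = -1 ∧ (D.c44 : G → ℂ) f = 0 ∧ (D.c45 : G → ℂ) f = 1 ∧
      (D.c55 : G → ℂ) f = -1 ∧ (D.θ : G → ℂ) f = 0 ∧ (D.θ' : G → ℂ) f = 0 := by
  refine (four_pre hG D hf h1 h2 h3 hmem hχ hψ hψ').resolve_left fun h24 => ?_
  haveI : Fact (Nat.Prime 3) := ⟨by norm_num⟩
  obtain ⟨⟨u, huC⟩, hu⟩ := exists_prime_orderOf_dvd_card' (G := Subgroup.centralizer ({f} : Set G)) 3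
    (by rw [h24]; norm_num)
  rw [Subgroup.orderOf_mk] at hu
  exact no_four hG D hu (Subgroup.zpowers f) (by rw [Nat.card_zpowers, hf]) (Subgroup.zpowers_le.2
    (Subgroup.mem_centralizer_singleton_iff.2 (Subgroup.mem_centralizer_singleton_iff.1 huC).symm))

theorem isConj_four (hG : Nat.card G = 7920) (D : Data G) {f g : G} (hf : orderOf f = 4) (hg : orderOf g = 4) :
    IsConj f g := by
  classical
  by_contra hcon
  have hs : orderOf (f ^ 2) = 2 := by rw [orderOf_pow, hf]; rfl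
  have hs' : orderOf (g ^ 2) = 2 := by rw [orderOf_pow, hg]; rfl
  obtain ⟨χ, ψ, ψ', h1, h2, h3, hmem, a, b, c⟩ := exists_chi hG D hs
  have hc : ∀ ξ : IrrCharacter G, (ξ : G → ℂ) (g ^ 2) = (ξ : G → ℂ) (f ^ 2) := fun ξ =>
    apply_isConj (isCharacter_of_irr ξ.2) (isConj_invol hG D hs' hs)
  obtain ⟨-, f1, f2, f3, f4, f5, f6, f7, f8, f9⟩ := four hG D hf h1 h2 h3 hmem a b c
  obtain ⟨-, g1, g2, g3, g4, g5, g6, g7, g8, g9⟩ :=
    four hG D hg h1 h2 h3 hmem ((hc χ).trans a) ((hc ψ).trans b) ((hc ψ').trans c)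
  have h := col D f g
  rw [if_neg hcon, show D.T = {χ, ψ, ψ'} from Finset.ext fun ξ => by rw [hmem]; simp,
    Finset.sum_insert (by simp [h1, h2]), Finset.sum_pair h3, f1, f2, f3, f4, f5, f6, f7, f8, f9, g1, g2, g3,
    g4, g5, g6, g7, g8, g9] at h
  simp only [map_ofNat, map_neg, map_one, map_zero] at h
  norm_num at h

end CfsgLib.MEleven
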