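import Cfsg.Agent.MEleven.Unique
import Cfsg.Agent.MathieuTwo.Main
import Cfsg.Agent.MathieuOut.Cards
import Cfsg.Agent.S0387

/-!
# Any simple group of order 7920 is the Mathieu group

* `iso_of_isM11` : two such groups are isomorphic
* `isM11_spor`, `isM11_stabilizer` : the concrete groups qualify
-/

set_option autoImplicit false
set_option linter.style.haveILetI false

open Cfsg
open scoped Pointwise

namespace CfsgLib.MEleven

universe u v

theorem iso_of_isM11 {G : Type u} [Group G] [Finite G] {K : Type v} [Group K] [Finite K] (hG : IsM11 G)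
    (hK : IsM11 K) : Nonempty (G ≃* K) := by
  haveI := hG.1
  haveI := hK.1
  obtain ⟨e⟩ := iso_ref (G := G) hG.2
  obtain ⟨e'⟩ := iso_ref (G := K) hK.2
  exact ⟨e.trans e'.symm⟩

theorem isM11_stabilizer (d : Finset GolayPt) (hd : d ∈ dodecads) (p : GolayPt) (hp : p ∈ d) :
    IsM11 ↥(MulAction.stabilizer M24 d ⊓ MulAction.stabilizer M24 p) := by
  obtain ⟨e⟩ := Golay.Simple.equiv_K11 d hd p hp
  haveI := Golay.Simple.simple_K11
  exact ⟨e.isSimpleGroup, Cfsg.Agent.S0387.result d hd p hp⟩

theorem isM11_spor : IsM11 ↥Spor.M11 := by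
  refine ⟨?_, MathieuOut.card_M11⟩
  rw [← MathieuTwo.K11_eq, MathieuTwo.fixd_eq.1]
  exact Golay.Simple.simple_K11

theorem iso_spor {G : Type u} [Group G] [Finite G] [IsSimpleGroup G] (h : Nat.card G = 7920) :
    Nonempty (G ≃* ↥Spor.M11) :=
  iso_of_isM11 ⟨inferInstance, h⟩ isM11_spor

end CfsgLib.MEleven
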