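import Cfsg.Agent.MEleven.Counts
import Cfsg.Agent.MEleven.Recognise

/-!
# The numbers of elements of given order in the Mathieu group of order 7920

`count_values` : each is 1, 1584, 1440 or a multiple of 55.
-/

set_option autoImplicit false
set_option linter.style.haveILetI false

open Cfsg CfsgLib CfsgLib.SmallOrd CfsgLib.CharBasics

namespace CfsgLib.MEleven

universe u

variable {G : Type u} [Group G] [Finite G] [IsSimpleGroup G]

theorem order_eq_of_dvd {p : ℕ} (hp : p.Prime) (hC : ∀ x : G, orderOf x = p →
    Subgroup.centralizer ({x} : Set G) = Subgroup.zpowers x) {g : G} (h : p ∣ orderOf g) : orderOf g = p := by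
  obtain ⟨k, hk⟩ := h
  have hx : orderOf (g ^ k) = p := by
    rw [orderOf_pow, hk, Nat.gcd_eq_right (dvd_mul_left k p), Nat.mul_div_cancel]
    rcases Nat.eq_zero_or_pos k with e | e
    · exfalso; rw [e, mul_zero] at hk; exact (orderOf_pos g).ne' hk
    · exact e
  have hmem : g ∈ Subgroup.zpowers (g ^ k) := by
    rw [← hC _ hx, Subgroup.mem_centralizer_singleton_iff]
    exact (Commute.refl g).pow_right k
  have := orderOf_dvd_of_mem_zpowers hmem
  rw [hx] at this
  exact Nat.dvd_antisymm this (hk ▸ dvd_mul_right p k)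

theorem count_five (hG : Nat.card G = 7920) : Nat.card {g : G // orderOf g = 5} = 1584 := by
  haveI : Fact (Nat.Prime 5) := ⟨by norm_num⟩
  obtain ⟨P⟩ : Nonempty (Sylow 5 G) := inferInstance
  have h := sylow_count_mul P
  rw [card_normalizer_five hG P, hG] at h
  rw [card_orderOf (card_sylow_five hG), show Nat.card (Sylow 5 G) = 396 by omega]

theorem count_eleven (hG : Nat.card G = 7920) : Nat.card {g : G // orderOf g = 11} = 1440 := by
  haveI : Fact (Nat.Prime 11) := ⟨by norm_num⟩
  obtain ⟨P⟩ : Nonempty (Sylow 11 G) := inferInstance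
  obtain ⟨hc, hC, he⟩ := eleven hG P
  rw [hC] at he
  have h55 := Subgroup.card_mul_index ((P : Subgroup G).subgroupOf (Subgroup.normalizer ((P : Subgroup G) : Set G)))
  rw [Nat.card_congr (Subgroup.subgroupOfEquivOfLe Subgroup.le_normalizer).toEquiv, hc] at h55
  rw [Subgroup.relIndex] at he
  rw [he] at h55
  have h := sylow_count_mul P
  rw [← h55, hG] at h
  rw [card_orderOf (card_sylow_eleven hG), show Nat.card (Sylow 11 G) = 144 by omega]

theorem count_values (hG : Nat.card G = 7920) (n : ℕ) :
    Nat.card {g : G // orderOf g = n} = 1 ∨ Nat.card {g : G // orderOf g = n} = 1584 ∨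
      Nat.card {g : G // orderOf g = n} = 1440 ∨ 55 ∣ Nat.card {g : G // orderOf g = n} := by
  classical
  haveI := Fintype.ofFinite G
  by_cases h1 : n = 1
  · left
    rw [h1, Nat.card_congr (Equiv.subtypeEquivRight fun g => orderOf_eq_one_iff)]
    exact Nat.card_unique
  by_cases h5 : n = 5
  · exact Or.inr (Or.inl (h5 ▸ count_five hG))
  by_cases h11 : n = 11
  · exact Or.inr (Or.inr (Or.inl (h11 ▸ count_eleven hG)))
  refine Or.inr (Or.inr (Or.inr ?_))
  rw [Nat.card_eq_fintype_card, Fintype.card_subtype, Finset.card_eq_sum_card_image ConjClasses.mk]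
  refine Finset.dvd_sum fun C hC => ?_
  obtain ⟨z, hz, rfl⟩ := Finset.mem_image.1 hC
  rw [Finset.mem_filter] at hz
  have hset : ((Finset.univ.filter fun g : G => orderOf g = n).filter fun w => ConjClasses.mk w = ConjClasses.mk z).card
      = Nat.card {x : G // IsConj z x} := by
    rw [Nat.card_eq_fintype_card, Fintype.card_subtype]
    congr 1
    ext w
    simp only [Finset.mem_filter, Finset.mem_univ, true_and, ConjClasses.mk_eq_mk_iff_isConj]
    exact ⟨fun h => h.2.symm, fun h => ⟨(orderOf_of_isConj h).symm.trans hz.2, h.symm⟩⟩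
  rw [hset, card_conjClass]
  have hz1 : z ≠ 1 := fun e => h1 (by rw [← hz.2, e, orderOf_one])
  have hd := cent_dvd hG hz1
    (fun hd => h5 (hz.2.symm.trans (order_eq_of_dvd (by norm_num) (fun x hx => cent_five hG hx) hd)))
    (fun hd => h11 (hz.2.symm.trans (order_eq_of_dvd (by norm_num) (fun x hx => cent_eleven hG hx) hd)))
  have hmul := Subgroup.card_mul_index (Subgroup.centralizer ({z} : Set G))
  obtain ⟨k, hk⟩ := hd
  rw [hG, show 7920 = 144 * 55 by norm_num, hk, mul_assoc] at hmul
  exact ⟨k, by rw [mul_comm]; exact (Nat.eq_of_mul_eq_mul_left Nat.card_pos hmul).trans rfl⟩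

/-- The Mathieu group of order 7920 is determined by its order and the set of these numbers. -/
theorem nse_unique {H : Type*} [Group H] [Finite H] (hH : Nat.card H = 7920)
    (h : ∀ c : ℕ, 0 < c → (∃ n, c = Nat.card {g : H // orderOf g = n}) →
      ∃ n, c = Nat.card {g : ↥Spor.M11 // orderOf g = n}) :
    Nonempty (H ≃* ↥Spor.M11) := by
  haveI : Fact (Nat.Prime 5) := ⟨by norm_num⟩
  haveI : Fact (Nat.Prime 11) := ⟨by norm_num⟩
  haveI := isM11_spor.1
  have step : ∀ {p : ℕ} [Fact p.Prime], (∀ P : Sylow p H, Nat.card P = p) →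
      (Nat.card (Sylow p H) * (p - 1) = 1 ∨ Nat.card (Sylow p H) * (p - 1) = 1584 ∨
        Nat.card (Sylow p H) * (p - 1) = 1440 ∨ 55 ∣ Nat.card (Sylow p H) * (p - 1)) := by
    intro p hp hP
    rw [← card_orderOf hP]
    have hpd : p ∣ Nat.card H := by
      obtain ⟨P⟩ : Nonempty (Sylow p H) := inferInstance
      exact (dvd_of_eq (hP P).symm).trans (Subgroup.card_subgroup_dvd_card _)
    obtain ⟨x, hx⟩ := exists_prime_orderOf_dvd_card' p hpd
    haveI : Nonempty {g : H // orderOf g = p} := ⟨⟨x, hx⟩⟩
    obtain ⟨n, hn⟩ := h _ Nat.card_pos ⟨p, rfl⟩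
    rw [hn]
    exact count_values isM11_spor.2 n
  haveI : IsSimpleGroup H := by
    refine isSimple_of_counts hH ?_ ?_
    · have hs := step (card_sylow_five hH)
      have hm : Nat.card (Sylow 5 H) % 5 = 1 := by
        have := card_sylow_modEq_one 5 H
        exact this
      have hd : Nat.card (Sylow 5 H) ∣ 1584 := by
        obtain ⟨P⟩ : Nonempty (Sylow 5 H) := inferInstance
        have := P.card_dvd_index
        have hi := Subgroup.card_mul_index (P : Subgroup H)
        rw [card_sylow_five hH P, hH] at hi
        rwa [show (P : Subgroup H).index = 1584 by omega] at this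
      have hmem := (List.mem_filter (p := fun d => decide (d ∣ 1584 ∧ d % 5 = 1))).2
        ⟨List.mem_range.2 (show _ < 1584 + 1 from Nat.lt_succ_of_le (Nat.le_of_dvd (by norm_num) hd)),
          decide_eq_true ⟨hd, hm⟩⟩
      rw [show (List.range (1584 + 1)).filter (fun d => decide (d ∣ 1584 ∧ d % 5 = 1)) =
        [1, 6, 11, 16, 36, 66, 176, 396] by decide +kernel] at hmem
      simp only [List.mem_cons, List.not_mem_nil, or_false] at hmem
      omega
    · have hs := step (card_sylow_eleven hH)
      have hm : Nat.card (Sylow 11 H) % 11 = 1 := by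
        have := card_sylow_modEq_one 11 H
        exact this
      have hd : Nat.card (Sylow 11 H) ∣ 720 := by
        obtain ⟨P⟩ : Nonempty (Sylow 11 H) := inferInstance
        have := P.card_dvd_index
        have hi := Subgroup.card_mul_index (P : Subgroup H)
        rw [card_sylow_eleven hH P, hH] at hi
        rwa [show (P : Subgroup H).index = 720 by omega] at this
      have hmem := (List.mem_filter (p := fun d => decide (d ∣ 720 ∧ d % 11 = 1))).2
        ⟨List.mem_range.2 (show _ < 720 + 1 from Nat.lt_succ_of_le (Nat.le_of_dvd (by norm_num) hd)),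
          decide_eq_true ⟨hd, hm⟩⟩
      rw [show (List.range (720 + 1)).filter (fun d => decide (d ∣ 720 ∧ d % 11 = 1)) =
        [1, 12, 45, 144] by decide +kernel] at hmem
      simp only [List.mem_cons, List.not_mem_nil, or_false] at hmem
      omega
  exact iso_spor hH

end CfsgLib.MEleven
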