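import Cfsg.Agent.S4429

/-!
# Local facts in a simple group of order 7920

* `cent_five`, `cent_eleven` : elements of order 5 and 11 are self-centralising
* `card_normalizer_five`     : `|N(P₅)| = 20`
* `exists_four`              : `N(P₅)` contains an element of order 4
* `cent_dvd`                 : centralisers of elements prime to 55 have order dividing 144
* `sylow_three`              : Sylow 3-subgroups are abelian of order 9
-/

set_option autoImplicit false
set_option linter.style.haveILetI false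

open Cfsg CfsgLib CfsgLib.SmallOrd CfsgLib.CharBasics

namespace CfsgLib.MEleven

universe u

variable {G : Type u} [Group G] [Finite G] [IsSimpleGroup G]

theorem centralizer_zpowers {G : Type*} [Group G] (x : G) :
    Subgroup.centralizer ((Subgroup.zpowers x : Subgroup G) : Set G) = Subgroup.centralizer {x} := by
  rw [Subgroup.zpowers_eq_closure, Subgroup.centralizer_closure]

theorem exists_ten (hG : Nat.card G = 7920) :
    ∃ χ : IrrCharacter G, charDegree (χ : G → ℂ) = 10 := by
  have h := (Cfsg.Agent.S4429.result hG).2 10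
  rw [if_neg (by norm_num), if_pos rfl] at h
  obtain ⟨⟨χ, hχ⟩⟩ := (Nat.card_pos_iff.1 (by rw [h]; norm_num :
    0 < Nat.card {χ : IrrCharacter G // charDegree (χ : G → ℂ) = 10})).1
  exact ⟨χ, hχ⟩

theorem exists_sylow_zpowers {G : Type*} [Group G] [Finite G] {p : ℕ} [Fact p.Prime] {x : G}
    (hx : orderOf x = p) (h : ∀ P : Sylow p G, Nat.card P = p) :
    ∃ P : Sylow p G, (P : Subgroup G) = Subgroup.zpowers x := by
  obtain ⟨P, hP⟩ := (IsPGroup.of_card (p := p) (n := 1) (G := Subgroup.zpowers x)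
    (by rw [Nat.card_zpowers, hx, pow_one])).exists_le_sylow
  exact ⟨P, (Subgroup.eq_of_le_of_card_ge hP (by rw [h P, Nat.card_zpowers, hx])).symm⟩

theorem five (hG : Nat.card G = 7920) [Fact (Nat.Prime 5)] (P : Sylow 5 G) :
    Nat.card P = 5 ∧ Subgroup.centralizer ((P : Subgroup G) : Set G) = P ∧
      (Subgroup.centralizer ((P : Subgroup G) : Set G)).relIndex
        (Subgroup.normalizer ((P : Subgroup G) : Set G)) = 4 := by
  obtain ⟨χ, hχ⟩ := exists_ten hG
  exact Cfsg.Agent.S4429.five hG P χ hχ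

theorem eleven (hG : Nat.card G = 7920) [Fact (Nat.Prime 11)] (P : Sylow 11 G) :
    Nat.card P = 11 ∧ Subgroup.centralizer ((P : Subgroup G) : Set G) = P ∧
      (Subgroup.centralizer ((P : Subgroup G) : Set G)).relIndex
        (Subgroup.normalizer ((P : Subgroup G) : Set G)) = 5 :=
  let ⟨h1, h2, h3⟩ := Cfsg.Agent.S4429.eleven hG P
  ⟨h1, Cfsg.Agent.S4429.centralizer_eq_of_card _ h1 h2, h3⟩

theorem cent_five (hG : Nat.card G = 7920) {x : G} (hx : orderOf x = 5) :
    Subgroup.centralizer ({x} : Set G) = Subgroup.zpowers x := by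
  haveI : Fact (Nat.Prime 5) := ⟨by norm_num⟩
  obtain ⟨P, hP⟩ := exists_sylow_zpowers hx fun P => (five hG P).1
  rw [← centralizer_zpowers, ← hP]
  exact (five hG P).2.1

theorem cent_eleven (hG : Nat.card G = 7920) {x : G} (hx : orderOf x = 11) :
    Subgroup.centralizer ({x} : Set G) = Subgroup.zpowers x := by
  haveI : Fact (Nat.Prime 11) := ⟨by norm_num⟩
  obtain ⟨P, hP⟩ := exists_sylow_zpowers hx fun P => (eleven hG P).1
  rw [← centralizer_zpowers, ← hP]
  exact (eleven hG P).2.1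

theorem not_dvd_cent {p : ℕ} (hp : p.Prime) (hC : ∀ x : G, orderOf x = p →
    Subgroup.centralizer ({x} : Set G) = Subgroup.zpowers x) {z : G} (hz : z ≠ 1) (hd : ¬ p ∣ orderOf z) :
    ¬ p ∣ Nat.card (Subgroup.centralizer ({z} : Set G)) := by
  intro h
  haveI := Fact.mk hp
  obtain ⟨⟨x, hx⟩, hxo⟩ := exists_prime_orderOf_dvd_card' (G := Subgroup.centralizer ({z} : Set G)) p h
  rw [Subgroup.orderOf_mk] at hxo
  have hzx : z ∈ Subgroup.zpowers x := by
    rw [← hC x hxo, Subgroup.mem_centralizer_singleton_iff]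
    exact (Subgroup.mem_centralizer_singleton_iff.1 hx).symm
  have := orderOf_dvd_of_mem_zpowers hzx
  rw [hxo] at this
  rcases (Nat.dvd_prime hp).1 this with e | e
  · exact hz (orderOf_eq_one_iff.1 e)
  · exact hd (by rw [e])

theorem cent_dvd (hG : Nat.card G = 7920) {z : G} (hz : z ≠ 1) (h5 : ¬ 5 ∣ orderOf z)
    (h11 : ¬ 11 ∣ orderOf z) : Nat.card (Subgroup.centralizer ({z} : Set G)) ∣ 144 := by
  set n := Nat.card (Subgroup.centralizer ({z} : Set G))
  have hn : n ∣ 144 * (5 * 11) := by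
    rw [show 144 * (5 * 11) = Nat.card G by rw [hG]]
    exact Subgroup.card_subgroup_dvd_card _
  have c5 : n.Coprime 5 := ((Nat.Prime.coprime_iff_not_dvd (by norm_num)).2
    (not_dvd_cent (by norm_num) (fun x hx => cent_five hG hx) hz h5)).symm
  have c11 : n.Coprime 11 := ((Nat.Prime.coprime_iff_not_dvd (by norm_num)).2
    (not_dvd_cent (by norm_num) (fun x hx => cent_eleven hG hx) hz h11)).symm
  exact (c5.mul_right c11).dvd_of_dvd_mul_right hn

theorem card_normalizer_five (hG : Nat.card G = 7920) [Fact (Nat.Prime 5)] (P : Sylow 5 G) :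
    Nat.card (Subgroup.normalizer ((P : Subgroup G) : Set G)) = 20 := by
  obtain ⟨h1, h2, h3⟩ := five hG P
  rw [h2] at h3
  have h := Subgroup.card_mul_index ((P : Subgroup G).subgroupOf (Subgroup.normalizer ((P : Subgroup G) : Set G)))
  rw [Nat.card_congr (Subgroup.subgroupOfEquivOfLe Subgroup.le_normalizer).toEquiv, h1] at h
  rw [Subgroup.relIndex] at h3
  rw [h3] at h
  exact h.symm

omit [IsSimpleGroup G] in
theorem sylow_three (hG : Nat.card G = 7920) [Fact (Nat.Prime 3)] (P : Sylow 3 G) :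
    Nat.card P = 9 ∧ IsMulCommutative (P : Subgroup G) := by
  have hP : Nat.card P = 9 := by
    rw [sylow_card (k := 2) (m := 880) (by rw [hG]; norm_num) (by norm_num) P]
    norm_num
  exact ⟨hP, ⟨⟨IsPGroup.commutative_of_card_eq_prime_sq (p := 3) (by rw [hP]; norm_num)⟩⟩⟩

theorem le_cent_of_comm {G : Type*} [Group G] {K : Subgroup G} (hK : IsMulCommutative K) {x : G} (hx : x ∈ K) :
    K ≤ Subgroup.centralizer {x} := fun y hy => by
  rw [Subgroup.mem_centralizer_singleton_iff]
  exact congrArg Subtype.val (hK.is_comm.comm (⟨y, hy⟩ : K) ⟨x, hx⟩)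

theorem nine_dvd_cent (hG : Nat.card G = 7920) {u : G} (hu : orderOf u = 3) :
    9 ∣ Nat.card (Subgroup.centralizer ({u} : Set G)) := by
  haveI : Fact (Nat.Prime 3) := ⟨by norm_num⟩
  obtain ⟨P, hP⟩ := (IsPGroup.of_card (p := 3) (n := 1) (G := Subgroup.zpowers u)
    (by rw [Nat.card_zpowers, hu, pow_one])).exists_le_sylow
  obtain ⟨h9, hc⟩ := sylow_three hG P
  have := Subgroup.card_dvd_of_le (le_cent_of_comm hc (hP (Subgroup.mem_zpowers u)))
  rwa [h9] at this

/-- The normaliser of a Sylow 5-subgroup has an element of order 4. -/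
theorem exists_four (hG : Nat.card G = 7920) [Fact (Nat.Prime 5)] (P : Sylow 5 G) :
    ∃ f ∈ Subgroup.normalizer ((P : Subgroup G) : Set G), orderOf f = 4 := by
  classical
  obtain ⟨hP, hC, -⟩ := five hG P
  haveI : Fact (Nat.Prime 2) := ⟨by norm_num⟩
  obtain ⟨K, hK⟩ := Sylow.exists_subgroup_card_pow_prime 2 (n := 2)
    (G := Subgroup.normalizer ((P : Subgroup G) : Set G)) (by rw [card_normalizer_five hG P]; norm_num)
  by_contra hno
  push Not at hno
  obtain ⟨⟨x, hx⟩, hx1⟩ : ∃ x : (P : Subgroup G), x ≠ 1 := by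
    haveI : Nontrivial (P : Subgroup G) := Finite.one_lt_card_iff_nontrivial.1 (by rw [hP]; norm_num)
    exact exists_ne 1
  have hxo : orderOf x = 5 := by
    have h := orderOf_dvd_natCard (⟨x, hx⟩ : (P : Subgroup G))
    rw [hP, Subgroup.orderOf_mk] at h
    refine ((Nat.dvd_prime (by norm_num)).1 h).resolve_left fun e => hx1 ?_
    exact Subtype.ext (orderOf_eq_one_iff.1 e)
  have hPz : (P : Subgroup G) = Subgroup.zpowers x :=
    (Subgroup.eq_of_le_of_card_ge (Subgroup.zpowers_le.2 hx) (by rw [hP, Nat.card_zpowers, hxo])).symm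
  have hinv : ∀ s : Subgroup.normalizer ((P : Subgroup G) : Set G), s ∈ K → s ≠ 1 →
      (s : G) * (s : G) = 1 ∧ (s : G) * x * (s : G)⁻¹ = x⁻¹ := by
    intro s hs hs1
    have ho : orderOf (s : G) ∣ 2 ^ 2 := by
      have := orderOf_dvd_natCard (⟨s, hs⟩ : K)
      rw [hK, Subgroup.orderOf_mk, ← Subgroup.orderOf_coe] at this
      exact this
    obtain ⟨i, hi, he⟩ := (Nat.dvd_prime_pow (by norm_num)).1 ho
    have h2 : orderOf (s : G) = 2 := by
      interval_cases i
      · exact absurd (Subtype.ext (orderOf_eq_one_iff.1 he)) hs1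
      · exact he
      · exact absurd he (hno _ s.2)
    have hsq : (s : G) * (s : G) = 1 := by
      rw [← sq]; exact orderOf_dvd_iff_pow_eq_one.1 (dvd_of_eq h2)
    refine ⟨hsq, ?_⟩
    obtain ⟨k, hk⟩ : ∃ k : ℤ, x ^ k = (s : G) * x * (s : G)⁻¹ := by
      refine Subgroup.mem_zpowers_iff.1 ?_
      rw [← hPz]
      exact (Subgroup.mem_normalizer_iff.1 s.2 x).1 hx
    have hs' : (s : G)⁻¹ = (s : G) := inv_eq_of_mul_eq_one_right hsq
    have hkk : x ^ (k * k) = x := by
      rw [zpow_mul, hk, conj_zpow, hk, hs', show (s : G) * ((s : G) * x * (s : G)) * (s : G) =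
        ((s : G) * (s : G)) * x * ((s : G) * (s : G)) by group, hsq, one_mul, mul_one]
    have hd : (5 : ℤ) ∣ k * k - 1 := by
      have h := orderOf_dvd_iff_zpow_eq_one.2 (show x ^ (k * k - 1) = 1 by rw [zpow_sub_one, hkk, mul_inv_cancel])
      rwa [hxo] at h
    have hprime : Prime (5 : ℤ) := Int.prime_iff_natAbs_prime.2 (by norm_num)
    rcases hprime.dvd_mul.1 (show (5 : ℤ) ∣ (k - 1) * (k + 1) by
      rw [show (k - 1) * (k + 1) = k * k - 1 by ring]; exact hd) with h | h
    · exfalso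
      have h1 : x ^ k = x := by
        have := orderOf_dvd_iff_zpow_eq_one.1 (show (orderOf x : ℤ) ∣ k - 1 by rw [hxo]; exact h)
        rw [zpow_sub_one, mul_inv_eq_one] at this
        exact this
      have hmem : (s : G) ∈ Subgroup.zpowers x := by
        rw [← cent_five hG hxo, Subgroup.mem_centralizer_singleton_iff]
        exact (mul_inv_eq_iff_eq_mul.1 (hk.symm.trans h1)).trans rfl
      have := orderOf_dvd_of_mem_zpowers hmem
      rw [h2, hxo] at this
      norm_num at this
    · rw [← hk]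
      have := orderOf_dvd_iff_zpow_eq_one.1 (show (orderOf x : ℤ) ∣ k + 1 by rw [hxo]; exact h)
      rw [zpow_add_one] at this
      exact eq_inv_of_mul_eq_one_left this
  haveI := Fintype.ofFinite K
  have hK4 : Fintype.card K = 4 := by rw [← Nat.card_eq_fintype_card, hK]; norm_num
  obtain ⟨⟨a, ha⟩, ⟨b, hb⟩, ha1, hb1, hab⟩ : ∃ a b : K, a ≠ 1 ∧ b ≠ 1 ∧ a ≠ b := by
    have hc : 2 ≤ ((Finset.univ : Finset K).erase 1).card := by
      rw [Finset.card_erase_of_mem (Finset.mem_univ _), Finset.card_univ, hK4]; norm_num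
    obtain ⟨a, ha, b, hb, hab⟩ := Finset.one_lt_card.1 hc
    exact ⟨a, b, (Finset.mem_erase.1 ha).1, (Finset.mem_erase.1 hb).1, hab⟩
  obtain ⟨hsa, hia⟩ := hinv a ha fun e => ha1 (Subtype.ext e)
  obtain ⟨hsb, hib⟩ := hinv b hb fun e => hb1 (Subtype.ext e)
  set c : G := (a : G) * (b : G) with hc
  have hcom : c * x * c⁻¹ = x := by
    rw [hc, show (a : G) * b * x * ((a : G) * b)⁻¹ = a * (b * x * (b : G)⁻¹) * (a : G)⁻¹ by group, hib,
      ← conj_inv, hia, inv_inv]
  have hmem : c ∈ Subgroup.zpowers x := by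
    rw [← cent_five hG hxo, Subgroup.mem_centralizer_singleton_iff]
    exact mul_inv_eq_iff_eq_mul.1 hcom
  have hd1 : orderOf c ∣ 5 := hxo ▸ orderOf_dvd_of_mem_zpowers hmem
  have hd2 : orderOf c ∣ 4 := by
    have := orderOf_dvd_natCard (⟨a * b, mul_mem ha hb⟩ : K)
    rw [hK, Subgroup.orderOf_mk, ← Subgroup.orderOf_coe] at this
    simpa [hc] using this
  have hc1 : c = 1 := orderOf_eq_one_iff.1 (Nat.dvd_one.1 ((Nat.dvd_gcd hd1 hd2).trans (by norm_num : Nat.gcd 5 4 ∣ 1)))
  refine hab (Subtype.ext (Subtype.ext ?_))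
  have : (a : G)⁻¹ = (b : G) := inv_eq_of_mul_eq_one_right hc1
  rw [← this, inv_eq_of_mul_eq_one_right hsa]

end CfsgLib.MEleven
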