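import Cfsg.Agent.MEleven.Index

/-!
# Uniqueness of the simple group of order 7920

In an action on 11 points such a group contains, after renumbering, `i ↦ i + 1`, `i ↦ 3 i` and a permutation
determined by the images of 1 and 2; only one conjugacy class of candidates generates a group without elements
of order 7.
-/

set_option autoImplicit false
set_option linter.style.haveILetI false

open Cfsg CfsgLib CfsgLib.SmallOrd
open Fin.NatCast Fin.CommRing

namespace CfsgLib.MEleven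

universe u

def permS : Equiv.Perm (Fin 11) := finRotate 11

def permM : Equiv.Perm (Fin 11) where
  toFun i := 3 * i
  invFun i := 4 * i
  left_inv := by decide
  right_inv := by decide

def tabY : Fin 11 → Fin 11 := fun i =>
  ([0, 1, 6, 9, 5, 3, 10, 2, 8, 4, 7] : List (Fin 11)).getD i.1 0

def negF : Fin 11 → Fin 11 := fun i => -i

/-- The candidate with `1 ↦ a`, `2 ↦ b` and `y (3 i) = 9 y i`. -/
def cand (a b : Fin 11) : Fin 11 → Fin 11 := fun i =>
  ([0, a, b, 9 * a, 729 * a * 9, 729 * a, 9 * b, 81 * b, 729 * b * 9, 81 * a, 729 * b] : List (Fin 11)).getD i.1 0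

def word (g : List (Fin 11 → Fin 11)) : List ℕ → (Fin 11 → Fin 11)
  | [] => id
  | k :: w => (g.getD k id) ∘ word g w

def badWords : List ((ℕ × ℕ) × List ℕ) :=
  [((1, 2), [0, 0, 1, 0, 0, 2, 0, 2]), ((1, 7), [0, 1, 2, 0, 1, 2]), ((1, 8), [0, 0, 0, 2, 0, 0, 2]),
      ((2, 1), [0, 2, 0, 2]), ((2, 3), [0, 0, 1, 2, 0, 2]), ((2, 4), [0, 1, 0, 2, 0, 2, 0, 2, 0, 1, 2]),
      ((2, 5), [0, 0, 1, 2, 0, 2, 0, 2, 0, 2]), ((2, 9), [0, 1, 2, 1, 0, 2]), ((3, 2), [0, 0, 1, 0, 2, 0, 0, 2]),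
      ((3, 6), [0, 0, 1, 2, 0, 2, 1]), ((3, 10), [0, 2, 0, 2]), ((4, 6), [0, 0, 2, 0, 0, 2]),
      ((4, 8), [0, 2, 0, 2, 0, 2]), ((4, 10), [0, 0, 1, 2, 1, 0, 2]), ((5, 2), [0, 1, 0, 1, 2, 0, 2]),
      ((5, 7), [0, 1, 1, 0, 2, 0, 2]), ((5, 10), [0, 0, 2, 1, 1, 0, 2]), ((6, 1), [0, 0, 1, 2, 0, 2, 0, 2, 0, 2]),
      ((6, 3), [0, 2, 0, 2]), ((6, 4), [0, 2, 0, 2, 0, 2, 0, 2]), ((6, 5), [0, 0, 0, 2, 0, 2]),
      ((6, 9), [0, 0, 2, 0, 2, 1, 1]), ((7, 1), [0, 0, 2, 0, 2, 0, 0, 2, 0, 2]), ((7, 3), [0, 0, 0, 2, 0, 2, 0, 0, 2, 0, 2]),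
      ((7, 4), [0, 0, 2, 0, 0, 2]), ((7, 5), [0, 1, 1, 0, 2, 0, 2, 1]), ((7, 9), [0, 0, 2, 0, 0, 2]),
      ((8, 1), [0, 0, 2, 1, 0, 1, 2]), ((8, 3), [0, 0, 0, 2, 0, 2, 1]), ((8, 4), [0, 1, 2, 0, 1, 2]),
      ((8, 5), [0, 0, 0, 0, 2, 0, 1, 2, 0, 2, 0, 2]), ((8, 9), [0, 1, 2, 0, 2, 0, 2, 1, 0, 2]), ((9, 6), [0, 0, 2, 0, 2, 1]),
      ((9, 7), [0, 0, 2, 0, 1, 2]), ((9, 8), [0, 2, 0, 2, 0, 2]), ((10, 1), [0, 2, 0, 2]),
      ((10, 3), [0, 0, 2, 0, 0, 2, 1, 0, 1, 2, 0, 2]), ((10, 4), [0, 0, 2, 0, 1, 0, 2]), ((10, 5), [0, 2, 1, 0, 2, 1]),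
      ((10, 9), [0, 0, 1, 2, 0, 1, 2, 0, 2, 1, 0, 2])]

def wordOf (a b : Fin 11) : List ℕ := ((badWords.find? fun e => e.1 = (a.1, b.1)).map Prod.snd).getD []

def gensOf (a b : Fin 11) : List (Fin 11 → Fin 11) := [fun i => i + 1, fun i => 3 * i, cand a b]

theorem classify : ∀ a b : Fin 11,
    (∃ i j : Fin 11, i ≠ j ∧ cand a b i = cand a b j) ∨
      (∃ j : Fin 5, (∀ i, cand a b i = tabY (3 ^ (j : ℕ) * i)) ∨
        ∀ i, negF (cand a b (negF i)) = tabY (3 ^ (j : ℕ) * i)) ∨
      ((∀ i, (word (gensOf a b) (wordOf a b))^[7] i = i) ∧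
        ∃ i, word (gensOf a b) (wordOf a b) i ≠ i) := by
  decide +kernel

theorem permM_pow (j : ℕ) (i : Fin 11) : (permM ^ j) i = 3 ^ j * i := by
  induction j with
  | zero => simp
  | succ j ih => rw [pow_succ', Equiv.Perm.mul_apply, ih, pow_succ', mul_assoc]; rfl

theorem permS_apply (i : Fin 11) : permS i = i + 1 := by rw [permS, finRotate_succ_apply]

def permY : Equiv.Perm (Fin 11) where
  toFun := tabY
  invFun i := ([0, 1, 7, 5, 9, 4, 2, 10, 8, 3, 6] : List (Fin 11)).getD i.1 0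
  left_inv := by decide
  right_inv := by decide

/-- The reference group. -/
def refGroup : Subgroup (Equiv.Perm (Fin 11)) := Subgroup.closure {permS, permM, permY}

variable {G : Type u} [Group G] [Finite G] [IsSimpleGroup G]

omit [IsSimpleGroup G] in
theorem n_mod {p : ℕ} [Fact p.Prime] (K : Subgroup G) (P : Sylow p G)
    (hN : Subgroup.normalizer ((P : Subgroup G) : Set G) ≤ K) :
    ∃ n : ℕ, n % p = 1 ∧ Nat.card (Subgroup.normalizer ((P : Subgroup G) : Set G)) * n = Nat.card K := by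
  have hPK : (P : Subgroup G) ≤ K := Subgroup.le_normalizer.trans hN
  refine ⟨Nat.card (Sylow p K), ?_, ?_⟩
  · have h := card_sylow_modEq_one p K
    rwa [Nat.ModEq, Nat.mod_eq_of_lt (Fact.out : p.Prime).one_lt] at h
  · have hcard : Nat.card (Subgroup.normalizer ((P.subtype hPK : Subgroup K) : Set K)) =
        Nat.card (Subgroup.normalizer ((P : Subgroup G) : Set G)) := by
      rw [show Subgroup.normalizer ((P.subtype hPK : Subgroup K) : Set K) =
        (Subgroup.normalizer ((P : Subgroup G) : Set G)).subgroupOf K by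
        ext ⟨z, hz⟩
        rw [Subgroup.mem_subgroupOf, Subgroup.mem_normalizer_iff, Subgroup.mem_normalizer_iff]
        constructor
        · intro h w
          constructor
          · intro hw
            exact (h ⟨w, hPK hw⟩).1 hw
          · intro hw
            have hwH : w ∈ K := by
              have := mul_mem (mul_mem (inv_mem hz) (hPK hw)) hz
              rwa [show z⁻¹ * (z * w * z⁻¹) * z = w by group] at this
            exact (h ⟨w, hwH⟩).2 hw
        · intro h w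
          exact h (w : G)]
      exact Nat.card_congr (Subgroup.subgroupOfEquivOfLe hN).toEquiv
    rw [← hcard, (P.subtype hPK).card_eq_index_normalizer]
    exact Subgroup.card_mul_index _

omit [IsSimpleGroup G] in
theorem normalizer_le {N K : Subgroup G} {a b : G} (ha : a ∈ N ⊓ K) (hb : b ∈ N ⊓ K) {p q : ℕ}
    (hao : orderOf a = p) (hbo : orderOf b = q) (hpq : p.Coprime q) (hN : Nat.card N = p * q) : N ≤ K := by
  have h1 : p ∣ Nat.card ↥(N ⊓ K) := by
    rw [← hao, ← Nat.card_zpowers]; exact Subgroup.card_dvd_of_le (Subgroup.zpowers_le.2 ha)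
  have h2 : q ∣ Nat.card ↥(N ⊓ K) := by
    rw [← hbo, ← Nat.card_zpowers]; exact Subgroup.card_dvd_of_le (Subgroup.zpowers_le.2 hb)
  exact inf_eq_left.1 (Subgroup.eq_of_le_of_card_ge inf_le_left
    (hN.trans_le (Nat.le_of_dvd Nat.card_pos (hpq.mul_dvd_of_dvd_of_dvd h1 h2))))

/-- `u` of order 11, `m` of order 5 normalising it, `f` of order 4 normalising `m` generate. -/
theorem generate (hG : Nat.card G = 7920) {u m f : G} (hu : orderOf u = 11) (hm : orderOf m = 5)
    (hf : orderOf f = 4) (hmu : m * u * m⁻¹ ∈ Subgroup.zpowers u) (hfm : f * m * f⁻¹ ∈ Subgroup.zpowers m) :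
    Subgroup.closure {u, m, f} = ⊤ := by
  haveI : Fact (Nat.Prime 11) := ⟨by norm_num⟩
  haveI : Fact (Nat.Prime 5) := ⟨by norm_num⟩
  set K := Subgroup.closure ({u, m, f} : Set G)
  have hK : u ∈ K ∧ m ∈ K ∧ f ∈ K := ⟨Subgroup.subset_closure (by simp), Subgroup.subset_closure (by simp),
    Subgroup.subset_closure (by simp)⟩
  obtain ⟨P, hP⟩ := exists_sylow_zpowers hu fun P => (eleven hG P).1
  obtain ⟨Q, hQ⟩ := exists_sylow_zpowers hm fun P => (five hG P).1
  have hnorm : ∀ {a b : G}, b * a * b⁻¹ ∈ Subgroup.zpowers a →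
      b ∈ Subgroup.normalizer ((Subgroup.zpowers a : Subgroup G) : Set G) := fun {a b} h => by
    refine Subgroup.mem_normalizer_fintype fun z hz => ?_
    obtain ⟨k, rfl⟩ := Subgroup.mem_zpowers_iff.1 hz
    show b * a ^ k * b⁻¹ ∈ Subgroup.zpowers a
    rw [← conj_zpow]
    exact Subgroup.zpow_mem _ h k
  have h55 : Nat.card (Subgroup.normalizer ((P : Subgroup G) : Set G)) = 11 * 5 := by
    obtain ⟨hc, hC, he⟩ := eleven hG P
    rw [hC] at he
    have h := Subgroup.card_mul_index ((P : Subgroup G).subgroupOf (Subgroup.normalizer ((P : Subgroup G) : Set G)))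
    rw [Nat.card_congr (Subgroup.subgroupOfEquivOfLe Subgroup.le_normalizer).toEquiv, hc] at h
    rw [Subgroup.relIndex] at he
    rw [he] at h
    exact h.symm
  have h20 : Nat.card (Subgroup.normalizer ((Q : Subgroup G) : Set G)) = 5 * 4 := card_normalizer_five hG Q
  have hNP : Subgroup.normalizer ((P : Subgroup G) : Set G) ≤ K :=
    normalizer_le (a := u) (b := m) ⟨Subgroup.le_normalizer (hP ▸ Subgroup.mem_zpowers u), hK.1⟩
      ⟨hP ▸ hnorm hmu, hK.2.1⟩ hu hm (by norm_num) h55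
  have hNQ : Subgroup.normalizer ((Q : Subgroup G) : Set G) ≤ K :=
    normalizer_le (a := m) (b := f) ⟨Subgroup.le_normalizer (hQ ▸ Subgroup.mem_zpowers m), hK.2.1⟩
      ⟨hQ ▸ hnorm hfm, hK.2.2⟩ hm hf (by norm_num) h20
  obtain ⟨a, ha, hac⟩ := n_mod K P hNP
  obtain ⟨b, hb, hbc⟩ := n_mod K Q hNQ
  rw [h55] at hac
  rw [h20] at hbc
  by_contra hne
  have hnc : ¬ IsMulCommutative G := not_comm (by rw [hG]; norm_num)
  have hfac := two_mul_card_dvd_factorial hnc K hne
  rw [hG] at hfac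
  have hidx : 11 ≤ K.index := by
    by_contra hlt
    have hd := hfac.trans (Nat.factorial_dvd_factorial (show K.index ≤ 10 by omega))
    norm_num [Nat.factorial] at hd
  have hmul := Subgroup.card_mul_index K
  rw [hG] at hmul
  have ha' : a * K.index = 144 := by
    refine Nat.eq_of_mul_eq_mul_left (show 0 < 11 * 5 by norm_num) ?_
    rw [← mul_assoc, hac, hmul]
  have ha13 : a ≤ 13 := by nlinarith
  interval_cases a <;> omega

set_option maxHeartbeats 1000000 in
theorem iso_ref (hG : Nat.card G = 7920) : Nonempty (G ≃* refGroup) := by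
  classical
  haveI : Fact (Nat.Prime 11) := ⟨by norm_num⟩
  haveI : Fact (Nat.Prime 5) := ⟨by norm_num⟩
  obtain ⟨H, hH⟩ := exists_index_eleven hG
  obtain ⟨e⟩ : Nonempty (G ⧸ H ≃ Fin 11) := ⟨(show Nat.card (G ⧸ H) = 11 from hH) ▸ Finite.equivFin (G ⧸ H)⟩
  set φ₀ := (Equiv.permCongrHom e).toMonoidHom.comp (MulAction.toPermHom G (G ⧸ H))
  have hinj₀ : Function.Injective φ₀ := by
    refine (Equiv.permCongrHom e).injective.comp ?_
    rw [← MonoidHom.ker_eq_bot_iff]
    refine ((MonoidHom.normal_ker _).eq_bot_or_eq_top).resolve_right fun htop => ?_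
    have hHtop : H = ⊤ := eq_top_iff.2 fun g _ => by
      have hg : g ∈ (MulAction.toPermHom G (G ⧸ H)).ker := htop ▸ Subgroup.mem_top g
      have := Equiv.ext_iff.1 (MonoidHom.mem_ker.1 hg) ((1 : G) : G ⧸ H)
      change g • ((1 : G) : G ⧸ H) = ((1 : G) : G ⧸ H) at this
      rw [← MulAction.mem_stabilizer_iff, MulAction.stabilizer_quotient] at this
      exact this
    rw [hHtop, Subgroup.index_top] at hH
    norm_num at hH
  obtain ⟨u, hu⟩ : ∃ u : G, orderOf u = 11 := exists_prime_orderOf_dvd_card' 11 (by rw [hG]; norm_num)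
  have hconj : IsConj (φ₀ u) permS := by
    rw [Equiv.Perm.isConj_iff_cycleType_eq, permS, cycleType_finRotate]
    have ho : orderOf (φ₀ u) = 11 := by rw [orderOf_injective _ hinj₀, hu]
    obtain ⟨n, hn⟩ := Equiv.Perm.cycleType_prime_order (σ := φ₀ u) (by rw [ho]; norm_num)
    have hs := Equiv.Perm.sum_cycleType (φ₀ u)
    have hle := (φ₀ u).support.card_le_univ
    rw [hn, ho, Multiset.sum_replicate, smul_eq_mul] at hs
    rw [Fintype.card_fin] at hle
    have hn0 : n = 0 := by omega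
    rw [hn, ho, hn0]
    rfl
  obtain ⟨c, hc⟩ := isConj_iff.1 hconj
  set φ := (MulAut.conj c).toMonoidHom.comp φ₀
  have hinj : Function.Injective φ := (MulEquiv.injective (MulAut.conj c)).comp hinj₀
  have hφu : φ u = permS := hc
  obtain ⟨P, hP⟩ := exists_sylow_zpowers hu fun P => (eleven hG P).1
  obtain ⟨hc11, hC, he⟩ := eleven hG P
  have h55 : Nat.card (Subgroup.normalizer ((P : Subgroup G) : Set G)) = 55 := by
    rw [hC] at he
    have h := Subgroup.card_mul_index ((P : Subgroup G).subgroupOf (Subgroup.normalizer ((P : Subgroup G) : Set G)))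
    rw [Nat.card_congr (Subgroup.subgroupOfEquivOfLe Subgroup.le_normalizer).toEquiv, hc11] at h
    rw [Subgroup.relIndex] at he
    rw [he] at h
    exact h.symm
  obtain ⟨⟨b, hbN⟩, hb⟩ := exists_prime_orderOf_dvd_card' (G := Subgroup.normalizer ((P : Subgroup G) : Set G)) 5
    (by rw [h55]; norm_num)
  rw [Subgroup.orderOf_mk] at hb
  obtain ⟨k, hk⟩ : ∃ k : ℕ, u ^ k = b * u * b⁻¹ := by
    refine mem_powers_iff_mem_zpowers.2 ?_
    rw [← hP]
    exact (Subgroup.mem_normalizer_iff.1 hbN u).1 (hP ▸ Subgroup.mem_zpowers u)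
  have hiter : ∀ j : ℕ, b ^ j * u * (b ^ j)⁻¹ = u ^ (k ^ j) := by
    intro j
    induction j with
    | zero => simp
    | succ j ih =>
      rw [pow_succ', show b * b ^ j * u * (b * b ^ j)⁻¹ = b * (b ^ j * u * (b ^ j)⁻¹) * b⁻¹ by group, ih,
        ← conj_pow, ← hk, ← pow_mul, ← pow_succ']
  have hk5 : k ^ 5 % 11 = 1 := by
    have h := hiter 5
    rw [show b ^ 5 = 1 by rw [← hb, pow_orderOf_eq_one], one_mul, inv_one, mul_one] at h
    have h' : u ^ (k ^ 5) = u ^ 1 := by rw [pow_one]; exact h.symm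
    have := pow_eq_pow_iff_modEq.1 h'
    rw [hu] at this
    exact this
  have hk1 : k % 11 ≠ 1 := by
    intro h1
    have : b * u * b⁻¹ = u := by rw [← hk, ← pow_mod_orderOf u, hu, h1, pow_one]
    have hmem : b ∈ Subgroup.zpowers u := by
      rw [← cent_eleven hG hu, Subgroup.mem_centralizer_singleton_iff]
      exact mul_inv_eq_iff_eq_mul.1 this
    have := orderOf_dvd_of_mem_zpowers hmem
    rw [hb, hu] at this
    norm_num at this
  obtain ⟨j, hj0, hj⟩ : ∃ j : ℕ, ¬ 5 ∣ j ∧ k ^ j % 11 = 3 := by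
    have hlt : k % 11 < 11 := Nat.mod_lt _ (by norm_num)
    rw [Nat.pow_mod] at hk5
    suffices h : ∃ j : ℕ, ¬ 5 ∣ j ∧ (k % 11) ^ j % 11 = 3 by
      obtain ⟨j, hj0, hj⟩ := h
      exact ⟨j, hj0, by rw [Nat.pow_mod]; exact hj⟩
    interval_cases h : k % 11
    · norm_num at hk5
    · exact absurd rfl hk1
    · norm_num at hk5
    · exact ⟨1, by norm_num, by norm_num⟩
    · exact ⟨4, by norm_num, by norm_num⟩
    · exact ⟨2, by norm_num, by norm_num⟩
    all_goals first | (norm_num at hk5; done) | exact ⟨3, by norm_num, by norm_num⟩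
  obtain ⟨b', hb'def⟩ : ∃ b' : G, b' = b ^ j := ⟨_, rfl⟩
  have hb' : b' * u * b'⁻¹ = u ^ 3 := by rw [hb'def, hiter j, ← pow_mod_orderOf u, hu, hj]
  set B := φ b'
  have hB : ∀ i : Fin 11, B (i + 1) = B i + 3 := by
    intro i
    have h := congrArg φ (mul_inv_eq_iff_eq_mul.1 hb')
    rw [map_mul, map_mul, map_pow, hφu] at h
    have := Equiv.ext_iff.1 h i
    simp only [Equiv.Perm.mul_apply, pow_succ, pow_zero, one_mul, permS_apply] at this
    rw [this]
    ring
  have hBval : ∀ i : Fin 11, B i = 3 * i + B 0 := by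
    intro i
    induction i using Fin.induction with
    | zero => simp
    | succ i ih =>
      rw [← Fin.coeSucc_eq_succ, hB, ih]
      ring
  obtain ⟨s, hs⟩ : ∃ s : ℕ, (s : Fin 11) = - B 0 := ⟨(- B 0).1, Fin.cast_val_eq_self _⟩
  obtain ⟨m, hmdef⟩ : ∃ m : G, m = u ^ s * b' := ⟨_, rfl⟩
  have hSpow : ∀ (n : ℕ) (i : Fin 11), (permS ^ n) i = i + n := by
    intro n i
    induction n with
    | zero => simp
    | succ n ih =>
      rw [pow_succ', Equiv.Perm.mul_apply, ih, permS_apply]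
      push_cast
      ring
  have hφm : φ m = permM := by
    refine Equiv.ext fun i => ?_
    rw [hmdef, map_mul, map_pow, hφu, Equiv.Perm.mul_apply, hSpow, hBval, hs]
    show _ = 3 * i
    ring
  have hmu' : m * u * m⁻¹ ∈ Subgroup.zpowers u := by
    rw [show m * u * m⁻¹ = u ^ s * (b' * u * b'⁻¹) * (u ^ s)⁻¹ by rw [hmdef]; group, hb']
    exact mul_mem (mul_mem (pow_mem (Subgroup.mem_zpowers u) s) (pow_mem (Subgroup.mem_zpowers u) 3))
      (inv_mem (pow_mem (Subgroup.mem_zpowers u) s))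
  have hm5 : orderOf m = 5 := by
    rw [← orderOf_injective _ hinj, hφm]
    refine orderOf_eq_prime ?_ ?_
    · refine Equiv.ext fun i => ?_
      rw [permM_pow]
      revert i
      decide
    · intro h
      have := Equiv.ext_iff.1 h 1
      revert this
      decide
  obtain ⟨Q, hQ⟩ := exists_sylow_zpowers hm5 fun P => (five hG P).1
  obtain ⟨f₀, hf₀N, hf₀⟩ := exists_four hG Q
  obtain ⟨k', hk'⟩ : ∃ k : ℕ, m ^ k = f₀ * m * f₀⁻¹ := by
    refine mem_powers_iff_mem_zpowers.2 ?_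
    rw [← hQ]
    exact (Subgroup.mem_normalizer_iff.1 hf₀N m).1 (hQ ▸ Subgroup.mem_zpowers m)
  have hsq : f₀ ^ 2 * m * (f₀ ^ 2)⁻¹ = m ^ (k' * k') := by
    rw [show f₀ ^ 2 * m * (f₀ ^ 2)⁻¹ = f₀ * (f₀ * m * f₀⁻¹) * f₀⁻¹ by rw [sq, mul_inv_rev]; simp only [mul_assoc], ← hk', ← conj_pow, ← hk', ← pow_mul]
  have hkk : k' % 5 = 2 ∨ k' % 5 = 3 := by
    have hne : k' * k' % 5 ≠ 1 := by
      intro h
      rw [← pow_mod_orderOf m, hm5, h, pow_one] at hsq
      have hmem : f₀ ^ 2 ∈ Subgroup.zpowers m := by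
        rw [← cent_five hG hm5, Subgroup.mem_centralizer_singleton_iff]
        exact mul_inv_eq_iff_eq_mul.1 hsq
      have := orderOf_dvd_of_mem_zpowers hmem
      rw [orderOf_pow, hf₀, hm5] at this
      norm_num at this
    have h0 : k' % 5 ≠ 0 := by
      intro h
      have : f₀ * m * f₀⁻¹ = 1 := by rw [← hk', ← pow_mod_orderOf m, hm5, h, pow_zero]
      rw [conj_eq_one_iff] at this
      rw [this, orderOf_one] at hm5
      norm_num at hm5
    rw [Nat.mul_mod] at hne
    have hlt : k' % 5 < 5 := Nat.mod_lt _ (by norm_num)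
    generalize k' % 5 = r at *
    interval_cases r <;> omega
  obtain ⟨f, hf, hfm⟩ : ∃ f : G, orderOf f = 4 ∧ f * m * f⁻¹ = m ^ 2 := by
    rcases hkk with h | h
    · exact ⟨f₀, hf₀, by rw [← hk', ← pow_mod_orderOf m, hm5, h]⟩
    · refine ⟨f₀⁻¹, by rw [orderOf_inv, hf₀], ?_⟩
      have h3 : f₀ * m ^ 2 * f₀⁻¹ = m := by
        rw [← conj_pow, ← hk', ← pow_mul, ← pow_mod_orderOf m, hm5, Nat.mul_mod, h]
        norm_num
      calc f₀⁻¹ * m * f₀⁻¹⁻¹ = f₀⁻¹ * (f₀ * m ^ 2 * f₀⁻¹) * f₀⁻¹⁻¹ := by rw [h3]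
        _ = m ^ 2 := by group
  have hfm' : f * m * f⁻¹ ∈ Subgroup.zpowers m := hfm ▸ pow_mem (Subgroup.mem_zpowers m) 2
  have htop := generate hG hu hm5 hf hmu' hfm'
  set Y := φ f
  have hY : ∀ i : Fin 11, Y (3 * i) = 9 * Y i := by
    intro i
    have h := congrArg φ (mul_inv_eq_iff_eq_mul.1 hfm)
    rw [map_mul, map_mul, map_pow, hφm] at h
    have := Equiv.ext_iff.1 h i
    simp only [Equiv.Perm.mul_apply, sq] at this
    change Y (3 * i) = 3 * (3 * Y i) at this
    rw [this, ← mul_assoc]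
    rfl
  have hY0 : Y 0 = 0 := by
    have h := hY 0
    rw [mul_zero] at h
    revert h
    generalize Y 0 = z
    revert z
    decide
  have hYc : ∀ i, Y i = cand (Y 1) (Y 2) i := by
    have a3 : Y 3 = 9 * Y 1 := hY 1
    have a9 : Y 9 = 9 * Y 3 := hY 3
    have a5 : Y 5 = 9 * Y 9 := hY 9
    have a4 : Y 4 = 9 * Y 5 := hY 5
    have b6 : Y 6 = 9 * Y 2 := hY 2
    have b7 : Y 7 = 9 * Y 6 := hY 6
    have b10 : Y 10 = 9 * Y 7 := hY 7
    have b8 : Y 8 = 9 * Y 10 := hY 10
    intro i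
    fin_cases i
    · exact hY0
    · rfl
    · rfl
    · exact a3
    · show Y 4 = _; rw [a4, a5, a9, a3]; show _ = (729 * Y 1) * 9; ring
    · show Y 5 = _; rw [a5, a9, a3]; show _ = 729 * Y 1; ring
    · exact b6
    · show Y 7 = _; rw [b7, b6]; show _ = (81 * Y 2 : Fin 11); ring
    · show Y 8 = _; rw [b8, b10, b7, b6]; show _ = (729 * Y 2) * 9; ring
    · show Y 9 = _; rw [a9, a3]; show _ = 81 * Y 1; ring
    · show Y 10 = _; rw [b10, b7, b6]; show _ = 729 * Y 2; ring
  have hrange : φ.range = Subgroup.closure {permS, permM, Y} := by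
    rw [MonoidHom.range_eq_map, ← htop, MonoidHom.map_closure, Set.image_insert_eq, Set.image_insert_eq,
      Set.image_singleton, hφu, hφm]
  rcases classify (Y 1) (Y 2) with ⟨i, j', hij, he'⟩ | ⟨j', hplain | hneg⟩ | ⟨h7, i, hi⟩
  · exact absurd (Y.injective (((hYc i).trans he').trans (hYc j').symm)) hij
  · have hYeq : Y = permY * permM ^ (j' : ℕ) := by
      refine Equiv.ext fun i => ?_
      rw [Equiv.Perm.mul_apply, permM_pow, hYc]
      exact hplain i
    refine ⟨(MonoidHom.ofInjective hinj).trans (MulEquiv.subgroupCongr ?_)⟩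
    rw [hrange, refGroup]
    refine le_antisymm ((Subgroup.closure_le _).2 ?_) ((Subgroup.closure_le _).2 ?_)
    · rintro x (rfl | rfl | rfl)
      · exact Subgroup.subset_closure (by simp)
      · exact Subgroup.subset_closure (by simp)
      · rw [hYeq]
        exact mul_mem (Subgroup.subset_closure (by simp)) (pow_mem (Subgroup.subset_closure (by simp)) _)
    · rintro x (rfl | rfl | rfl)
      · exact Subgroup.subset_closure (by simp)
      · exact Subgroup.subset_closure (by simp)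
      · rw [show permY = Y * (permM ^ (j' : ℕ))⁻¹ by rw [hYeq, mul_inv_cancel_right]]
        exact mul_mem (Subgroup.subset_closure (by simp)) (inv_mem (pow_mem (Subgroup.subset_closure (by simp)) _))
  · let nP : Equiv.Perm (Fin 11) := Equiv.neg (Fin 11)
    set γ := (MulAut.conj nP).toMonoidHom
    have hγ : ∀ (x : Equiv.Perm (Fin 11)) (i : Fin 11), γ x i = -(x (-i)) := fun x i => rfl
    have g1 : γ permS = permS⁻¹ := by decide +kernel
    have g2 : γ permM = permM := by decide +kernel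
    have g3 : γ Y = permY * permM ^ (j' : ℕ) := by
      refine Equiv.ext fun i => ?_
      rw [Equiv.Perm.mul_apply, permM_pow, hγ, hYc]
      exact hneg i
    refine ⟨(MonoidHom.ofInjective hinj).trans
      ((Subgroup.equivMapOfInjective _ γ (MulEquiv.injective _)).trans (MulEquiv.subgroupCongr ?_))⟩
    rw [hrange, MonoidHom.map_closure, Set.image_insert_eq, Set.image_insert_eq, Set.image_singleton, g1, g2, g3,
      refGroup]
    refine le_antisymm ((Subgroup.closure_le _).2 ?_) ((Subgroup.closure_le _).2 ?_)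
    · rintro x (rfl | rfl | rfl)
      · exact inv_mem (Subgroup.subset_closure (by simp))
      · exact Subgroup.subset_closure (by simp)
      · exact mul_mem (Subgroup.subset_closure (by simp)) (pow_mem (Subgroup.subset_closure (by simp)) _)
    · have hmM : permM ∈ Subgroup.closure ({permS⁻¹, permM, permY * permM ^ (j' : ℕ)} : Set _) :=
        Subgroup.subset_closure (by simp)
      rintro x (rfl | rfl | rfl)
      · exact inv_inv permS ▸ inv_mem (Subgroup.subset_closure (by simp))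
      · exact hmM
      · have hmem : permY * permM ^ (j' : ℕ) * (permM ^ (j' : ℕ))⁻¹ ∈
            Subgroup.closure ({permS⁻¹, permM, permY * permM ^ (j' : ℕ)} : Set _) :=
          mul_mem (Subgroup.subset_closure (by simp)) (inv_mem (pow_mem hmM _))
        rwa [mul_inv_cancel_right] at hmem
  · exfalso
    have hex : ∀ w : List ℕ, ∃ g : G, ∀ i, φ g i = word (gensOf (Y 1) (Y 2)) w i := by
      intro w
      induction w with
      | nil => exact ⟨1, fun i => by rw [map_one]; rfl⟩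
      | cons k w ih =>
        obtain ⟨g, hg⟩ := ih
        obtain ⟨a, ha⟩ : ∃ a : G, ∀ i, φ a i = ((gensOf (Y 1) (Y 2)).getD k id) i := by
          match k with
          | 0 => exact ⟨u, fun i => by rw [hφu, permS_apply]; rfl⟩
          | 1 => exact ⟨m, fun i => by rw [hφm]; rfl⟩
          | 2 => exact ⟨f, fun i => hYc i⟩
          | n + 3 => exact ⟨1, fun i => by rw [map_one]; rfl⟩
        exact ⟨a * g, fun i => by rw [map_mul, Equiv.Perm.mul_apply, ha, hg]; rfl⟩
    obtain ⟨g, hg⟩ := hex (wordOf (Y 1) (Y 2))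
    have hfun : (φ g : Fin 11 → Fin 11) = word (gensOf (Y 1) (Y 2)) (wordOf (Y 1) (Y 2)) := funext hg
    haveI : Fact (Nat.Prime 7) := ⟨by norm_num⟩
    have ho : orderOf g = 7 := by
      rw [← orderOf_injective _ hinj]
      refine orderOf_eq_prime (Equiv.ext fun i => ?_) (fun h => hi ?_)
      · rw [Equiv.Perm.coe_pow, hfun, h7]; rfl
      · rw [← hg, h]; rfl
    have := orderOf_dvd_natCard g
    rw [ho, hG] at this
    norm_num at this

end CfsgLib.MEleven
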