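import Cfsg.Agent.MEleven.Local

/-!
# The ten characters of a simple group of order 7920

`Data G` names them, with the two block relations (`rel11`, `rel5`), the values at elements of order 5
(`five_*`) and reality of the characters determined by their degree (`real_*`).
-/

set_option autoImplicit false
set_option linter.style.haveILetI false

open Cfsg CfsgLib CfsgLib.SmallOrd CfsgLib.CharBasics
open scoped ComplexConjugate

namespace CfsgLib.MEleven

universe u

variable {G : Type u} [Group G] [Finite G]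

/-- The degree of an irreducible character. -/
noncomputable abbrev deg (χ : IrrCharacter G) : ℕ := charDegree (χ : G → ℂ)

/-- Names for the irreducible characters. -/
structure Data (G : Type u) [Group G] [Finite G] where
  c11 : IrrCharacter G
  c44 : IrrCharacter G
  c45 : IrrCharacter G
  c55 : IrrCharacter G
  θ : IrrCharacter G
  θ' : IrrCharacter G
  T : Finset (IrrCharacter G)
  hT : T.card = 3
  d11 : deg c11 = 11
  d44 : deg c44 = 44
  d45 : deg c45 = 45
  d55 : deg c55 = 55
  dθ : deg θ = 16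
  dθ' : deg θ' = 16
  dT : ∀ χ : IrrCharacter G, χ ∈ T ↔ deg χ = 10
  sum_eq : ∀ [Fintype (IrrCharacter G)] (F : IrrCharacter G → ℂ), ∑ χ, F χ =
    F oneChar + F c11 + F c44 + F c45 + F c55 + F θ + F θ' + ∑ χ ∈ T, F χ
  agree : ∀ g : G, ¬ 11 ∣ orderOf g → (θ' : G → ℂ) g = (θ : G → ℂ) g
  rel11 : ∀ g : G, ¬ 11 ∣ orderOf g →
    1 + (c45 : G → ℂ) g - ∑ χ ∈ T, (χ : G → ℂ) g - (θ : G → ℂ) g = 0
  rel5 : ∀ g : G, ¬ 5 ∣ orderOf g →
    1 + (c11 : G → ℂ) g - (c44 : G → ℂ) g + (θ : G → ℂ) g + (θ' : G → ℂ) g = 0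
  five_11 : ∀ x : G, orderOf x = 5 → (c11 : G → ℂ) x = 1
  five_44 : ∀ x : G, orderOf x = 5 → (c44 : G → ℂ) x = -1
  five_θ : ∀ x : G, orderOf x = 5 → (θ : G → ℂ) x = 1
  five_θ' : ∀ x : G, orderOf x = 5 → (θ' : G → ℂ) x = 1
  five_zero : ∀ χ : IrrCharacter G, 5 ∣ deg χ → ∀ x : G, orderOf x = 5 → (χ : G → ℂ) x = 0
  unique : ∀ χ : IrrCharacter G, (deg χ = 11 → χ = c11) ∧ (deg χ = 44 → χ = c44) ∧
    (deg χ = 45 → χ = c45) ∧ (deg χ = 55 → χ = c55) ∧ (deg χ = 16 → χ = θ ∨ χ = θ')

/-- Complex conjugation of irreducible characters. -/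
noncomputable def starChar (χ : IrrCharacter G) : IrrCharacter G :=
  haveI := Fintype.ofFinite G
  ⟨fun g => conj ((χ : G → ℂ) g), BrauerInd.isIrr_star χ.2⟩

theorem starChar_apply (χ : IrrCharacter G) (g : G) : (starChar χ : G → ℂ) g = conj ((χ : G → ℂ) g) := rfl

theorem deg_starChar (χ : IrrCharacter G) : deg (starChar χ) = deg χ := by
  have h := apply_one (isCharacter_of_irr (starChar χ).2)
  rw [starChar_apply, apply_one (isCharacter_of_irr χ.2), Complex.conj_natCast] at h
  exact_mod_cast h.symm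

theorem deg_one : deg (oneChar : IrrCharacter G) = 1 := by
  have := apply_one (isCharacter_of_irr (oneChar (G := G)).2)
  rw [oneChar_apply] at this
  exact_mod_cast this.symm

theorem deg_cast (χ : IrrCharacter G) : (χ : G → ℂ) 1 = (deg χ : ℂ) := apply_one (isCharacter_of_irr χ.2)

variable [IsSimpleGroup G]

theorem deg_mem (hG : Nat.card G = 7920) (χ : IrrCharacter G) :
    deg χ = 1 ∨ deg χ = 10 ∨ deg χ = 11 ∨ deg χ = 16 ∨ deg χ = 44 ∨ deg χ = 45 ∨ deg χ = 55 := by
  have h := (Cfsg.Agent.S4429.result hG).2 (deg χ)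
  have hpos : Nat.card {ψ : IrrCharacter G // charDegree (ψ : G → ℂ) = deg χ} ≠ 0 := by
    haveI : Nonempty {ψ : IrrCharacter G // charDegree (ψ : G → ℂ) = deg χ} := ⟨⟨χ, rfl⟩⟩
    exact Nat.card_pos.ne'
  rw [h] at hpos
  split_ifs at hpos <;> omega

/-- The sign of a character of degree prime to 5 in the principal 5-block. -/
noncomputable def sgn (χ : IrrCharacter G) : ℤ := if deg χ = 44 then -1 else 1

set_option maxHeartbeats 1000000 in
theorem exists_data (hG : Nat.card G = 7920) : Nonempty (Data G) := by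
  classical
  haveI := Fintype.ofFinite G
  haveI := Fintype.ofFinite (IrrCharacter G)
  haveI : Fact (Nat.Prime 11) := ⟨by norm_num⟩
  haveI : Fact (Nat.Prime 5) := ⟨by norm_num⟩
  have hnc : ¬ IsMulCommutative G := not_comm (by rw [hG]; norm_num)
  obtain ⟨htot, hcnt⟩ := Cfsg.Agent.S4429.result hG
  have hf : ∀ n, (Finset.univ.filter fun χ : IrrCharacter G => deg χ = n).card =
      (if n = 1 ∨ n = 11 ∨ n = 44 ∨ n = 45 ∨ n = 55 then 1 else if n = 10 then 3 else if n = 16 then 2 else 0) :=
    fun n => by rw [← hcnt n, Nat.card_eq_fintype_card, Fintype.card_subtype]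
  obtain ⟨e, he⟩ := Finset.card_eq_one.1 (by rw [hf]; rfl :
    (Finset.univ.filter fun χ : IrrCharacter G => deg χ = 1).card = 1)
  obtain ⟨a, ha⟩ := Finset.card_eq_one.1 (by rw [hf]; rfl :
    (Finset.univ.filter fun χ : IrrCharacter G => deg χ = 11).card = 1)
  obtain ⟨b, hb⟩ := Finset.card_eq_one.1 (by rw [hf]; rfl :
    (Finset.univ.filter fun χ : IrrCharacter G => deg χ = 44).card = 1)
  obtain ⟨c, hc⟩ := Finset.card_eq_one.1 (by rw [hf]; rfl :
    (Finset.univ.filter fun χ : IrrCharacter G => deg χ = 45).card = 1)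
  obtain ⟨d, hd⟩ := Finset.card_eq_one.1 (by rw [hf]; rfl :
    (Finset.univ.filter fun χ : IrrCharacter G => deg χ = 55).card = 1)
  obtain ⟨s, s', hss, hs⟩ := Finset.card_eq_two.1 (by rw [hf]; rfl :
    (Finset.univ.filter fun χ : IrrCharacter G => deg χ = 16).card = 2)
  set T := Finset.univ.filter fun χ : IrrCharacter G => deg χ = 10 with hTdef
  have hT : T.card = 3 := by rw [hTdef, hf]; rfl
  have dT : ∀ χ : IrrCharacter G, χ ∈ T ↔ deg χ = 10 := fun χ => by simp [T]
  have key : ∀ {n : ℕ} {z : IrrCharacter G}, (Finset.univ.filter fun χ : IrrCharacter G => deg χ = n) = {z} →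
      ∀ χ, deg χ = n ↔ χ = z := fun h χ => by
    have := congrArg (fun t => χ ∈ t) h
    simpa using this
  have k1 := key he
  have ka := key ha
  have kb := key hb
  have kc := key hc
  have kd := key hd
  have ks : ∀ χ, deg χ = 16 ↔ χ = s ∨ χ = s' := fun χ => by
    have := congrArg (fun t => χ ∈ t) hs
    simpa using this
  have eone : oneChar = e := (k1 _).1 deg_one
  have hall : ∀ χ : IrrCharacter G, χ = oneChar ∨ χ ∈ T ∨ χ = a ∨ χ = s ∨ χ = s' ∨ χ = b ∨ χ = c ∨ χ = d :=
    fun χ => by
    rcases deg_mem hG χ with h | h | h | h | h | h | h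
    · exact Or.inl (eone ▸ (k1 χ).1 h)
    · exact Or.inr (Or.inl ((dT χ).2 h))
    · exact Or.inr (Or.inr (Or.inl ((ka χ).1 h)))
    · rcases (ks χ).1 h with h | h
      · exact Or.inr (Or.inr (Or.inr (Or.inl h)))
      · exact Or.inr (Or.inr (Or.inr (Or.inr (Or.inl h))))
    · exact Or.inr (Or.inr (Or.inr (Or.inr (Or.inr (Or.inl ((kb χ).1 h))))))
    · exact Or.inr (Or.inr (Or.inr (Or.inr (Or.inr (Or.inr (Or.inl ((kc χ).1 h)))))))
    · exact Or.inr (Or.inr (Or.inr (Or.inr (Or.inr (Or.inr (Or.inr ((kd χ).1 h)))))))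
  have da := (ka a).2 rfl
  have db := (kb b).2 rfl
  have dc := (kc c).2 rfl
  have dd := (kd d).2 rfl
  have ds := (ks s).2 (Or.inl rfl)
  have ds' := (ks s').2 (Or.inr rfl)
  have sum_eq : ∀ [inst : Fintype (IrrCharacter G)] (F : IrrCharacter G → ℂ), ∑ χ, F χ =
      F oneChar + F a + F b + F c + F d + F s + F s' + ∑ χ ∈ T, F χ := by
    intro inst F
    have hne : ∀ {x y : IrrCharacter G}, deg x ≠ deg y → x ≠ y := fun h e => h (congrArg deg e)
    have hu : (Finset.univ : Finset (IrrCharacter G)) =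
        insert oneChar (insert a (insert b (insert c (insert d (insert s (insert s' T)))))) := by
      symm
      refine Finset.eq_univ_iff_forall.2 fun χ => ?_
      rcases hall χ with h | h | h | h | h | h | h | h <;> simp [h]
    have hnT : ∀ {x : IrrCharacter G}, deg x ≠ 10 → x ∉ T := fun h hx => h ((dT _).1 hx)
    rw [hu]
    rw [Finset.sum_insert, Finset.sum_insert, Finset.sum_insert, Finset.sum_insert, Finset.sum_insert,
      Finset.sum_insert, Finset.sum_insert]
    · ring
    all_goals try simp only [Finset.mem_insert, not_or]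
    all_goals and_intros
    all_goals first
      | exact hss
      | (intro k; have h10 := (dT _).1 k; have h1 := deg_one (G := G); omega)
      | (intro k; have h10 := congrArg deg k; have h1 := deg_one (G := G); omega)
  -- the principal 11-block
  obtain ⟨P⟩ : Nonempty (Sylow 11 G) := inferInstance
  obtain ⟨hP, -, he11⟩ := eleven hG P
  obtain ⟨S⟩ := exists_split hnc (by norm_num) P hP he11
  have hR : S.R = insert c T := by
    refine Finset.eq_of_subset_of_card_le (fun χ hχ => ?_) ?_
    · have h := S.deg_R χ hχ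
      have hne : χ ≠ oneChar := fun e => S.one_notMem.1 (e ▸ hχ)
      have h1 : deg χ ≠ 1 := (one_lt_degree hnc χ hne).ne'
      change (11 : ℤ) ∣ _ * (deg χ : ℤ) - 1 at h
      rcases deg_mem hG χ with e | e | e | e | e | e | e <;>
        first
        | exact absurd e h1
        | exact Finset.mem_insert_of_mem ((dT χ).2 e)
        | exact Finset.mem_insert.2 (Or.inl ((kc χ).1 e))
        | (rcases S.sign_R χ hχ with k | k <;> rw [k, e] at h <;> norm_num at h)
    · rw [Finset.card_insert_of_notMem (fun h => by rw [dT, dc] at h; norm_num at h), hT]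
      have := S.card_R
      omega
  have hσ : ∀ χ ∈ S.R, S.σ χ = if χ = c then 1 else -1 := by
    intro χ hχ
    have h := S.deg_R χ hχ
    change (11 : ℤ) ∣ _ * (deg χ : ℤ) - 1 at h
    rcases Finset.mem_insert.1 (hR ▸ hχ) with e | e
    · subst e
      rw [if_pos rfl]
      rcases S.sign_R χ hχ with k | k
      · exact k
      · rw [k, dc] at h
        norm_num at h
    · rw [if_neg (fun k => by rw [k, dT, dc] at e; norm_num at e)]
      rcases S.sign_R χ hχ with k | k
      · rw [k, (dT χ).1 e] at h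
        norm_num at h
      · exact k
  have hY : S.Y = {s, s'} := by
    refine Finset.eq_of_subset_of_card_le (fun χ hχ => ?_) ?_
    · have h := S.deg_Y χ hχ
      change (11 : ℤ) ∣ _ * (deg χ : ℤ) + (5 : ℕ) at h
      rcases deg_mem hG χ with e | e | e | e | e | e | e <;>
        first
        | (rcases S.sign_Y with k | k <;> rw [k, e] at h <;> norm_num at h; done)
        | exact Finset.mem_insert.2 (((ks χ).1 e).imp_right Finset.mem_singleton.2)
    · rw [Finset.card_pair hss]
      have := S.card_Y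
      omega
  have hsY : s ∈ S.Y := hY ▸ Finset.mem_insert_self s _
  have hs'Y : s' ∈ S.Y := hY ▸ Finset.mem_insert_of_mem (Finset.mem_singleton_self s')
  have hδ : S.δ = -1 := by
    have h := S.deg_Y s hsY
    change (11 : ℤ) ∣ _ * (deg s : ℤ) + (5 : ℕ) at h
    rcases S.sign_Y with k | k <;> rw [k, ds] at h
    · norm_num at h
    · exact k
  have rel11 : ∀ g : G, ¬ 11 ∣ orderOf g →
      1 + (c : G → ℂ) g - ∑ χ ∈ T, (χ : G → ℂ) g - (s : G → ℂ) g = 0 := by
    intro g hg
    have h := S.rel s hsY g hg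
    rw [hR, Finset.sum_insert (fun h => by rw [dT, dc] at h; norm_num at h), hδ,
      hσ c (hR ▸ Finset.mem_insert_self c _), if_pos rfl,
      Finset.sum_congr rfl (g := fun χ : IrrCharacter G => -((χ : G → ℂ) g)) (fun χ hχ => by
        rw [hσ χ (hR ▸ Finset.mem_insert_of_mem hχ), if_neg (fun k => by rw [k, dT, dc] at hχ; norm_num at hχ)]
        simp), Finset.sum_neg_distrib] at h
    push_cast at h
    linear_combination h
  -- the principal 5-block
  have hfive : ∀ (Q : Sylow 5 G), ∃ (R Y : Finset (IrrCharacter G)) (θ₀ : IrrCharacter G), Y = {θ₀} ∧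
      R ∪ Y = {a, b, s, s'} ∧ Disjoint R Y ∧
      (∀ g, ¬ 5 ∣ orderOf g → 1 + ∑ χ ∈ R ∪ Y, (sgn χ : ℂ) * (χ : G → ℂ) g = 0) ∧
      ∀ χ ∈ R, ∀ x ∈ (Q : Subgroup G), x ≠ 1 → (χ : G → ℂ) x = (sgn χ : ℂ) := by
    intro Q
    obtain ⟨hQ, -, he5⟩ := five hG Q
    obtain ⟨U⟩ := exists_split hnc (by norm_num) Q hQ he5
    obtain ⟨θ₀, hθ⟩ := Finset.card_eq_one.1 (by have := U.card_Y; omega : U.Y.card = 1)
    have hσ5 : ∀ χ ∈ U.R, U.σ χ = sgn χ := by
      intro χ hχ
      have h := U.deg_R χ hχ
      change (5 : ℤ) ∣ _ * (deg χ : ℤ) - 1 at h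
      unfold sgn
      rcases deg_mem hG χ with e | e | e | e | e | e | e <;> rcases U.sign_R χ hχ with k | k <;>
        first | (rw [k, e] at h; norm_num at h; done) | (rw [k, e]; norm_num; done) | skip
    have hδ5 : U.δ = sgn θ₀ := by
      have hm : θ₀ ∈ U.Y := hθ ▸ Finset.mem_singleton_self θ₀
      have h := U.deg_Y θ₀ hm
      change (5 : ℤ) ∣ _ * (deg θ₀ : ℤ) + (4 : ℕ) at h
      unfold sgn
      rcases deg_mem hG θ₀ with e | e | e | e | e | e | e <;> rcases U.sign_Y with k | k <;>
        first | (rw [k, e] at h; norm_num at h; done) | (rw [k, e]; norm_num; done) | skip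
    refine ⟨U.R, U.Y, θ₀, hθ, ?_, U.disj, fun g hg => ?_, fun χ hχ x hx hx1 => ?_⟩
    · refine Finset.eq_of_subset_of_card_le (fun χ hχ => ?_) ?_
      · have hne : χ ≠ oneChar := fun e => by
          rcases Finset.mem_union.1 hχ with h | h
          · exact U.one_notMem.1 (e ▸ h)
          · exact U.one_notMem.2 (e ▸ h)
        have h5 : ¬ 5 ∣ deg χ := fun hd => by
          rcases Finset.mem_union.1 hχ with h | h
          · have h' := U.deg_R χ h
            have := Int.dvd_trans (Int.natCast_dvd_natCast.2 hd) (dvd_mul_left (deg χ : ℤ) (U.σ χ))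
            have h2 := dvd_sub this h'
            norm_num at h2
          · have h' := U.deg_Y χ h
            have := Int.dvd_trans (Int.natCast_dvd_natCast.2 hd) (dvd_mul_left (deg χ : ℤ) U.δ)
            have h2 := dvd_sub h' this
            norm_num at h2
        simp only [Finset.mem_insert, Finset.mem_singleton]
        rcases deg_mem hG χ with e | e | e | e | e | e | e <;>
          first
          | exact absurd e (one_lt_degree hnc χ hne).ne'
          | (rw [e] at h5; norm_num at h5; done)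
          | exact Or.inl ((ka χ).1 e)
          | exact Or.inr (Or.inl ((kb χ).1 e))
          | exact Or.inr (Or.inr ((ks χ).1 e))
      · rw [Finset.card_union_of_disjoint U.disj, hθ, Finset.card_singleton]
        have := U.card_R
        have h4 : ({a, b, s, s'} : Finset (IrrCharacter G)).card ≤ 4 := by
          refine (Finset.card_insert_le _ _).trans ?_
          refine Nat.succ_le_succ ((Finset.card_insert_le _ _).trans ?_)
          exact Nat.succ_le_succ Finset.card_le_two
        omega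
    · have h := U.rel θ₀ (hθ ▸ Finset.mem_singleton_self θ₀) g hg
      rw [hδ5, Finset.sum_congr rfl (fun χ hχ => by rw [hσ5 χ hχ])] at h
      rw [Finset.sum_union U.disj, hθ, Finset.sum_singleton]
      linear_combination h
    · have h := U.val_R χ hχ x hx hx1 1 (one_mem _) (by rw [orderOf_one]; norm_num)
      rwa [mul_one, hσ5 χ hχ] at h
  have hquad : ∀ F : IrrCharacter G → ℂ, ∑ χ ∈ ({a, b, s, s'} : Finset (IrrCharacter G)), F χ =
      F a + F b + F s + F s' := by
    intro F
    rw [Finset.sum_insert, Finset.sum_insert, Finset.sum_pair hss]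
    · ring
    all_goals simp only [Finset.mem_insert, Finset.mem_singleton, not_or]
    all_goals refine ⟨?_, ?_⟩
    all_goals try refine ⟨?_, ?_⟩
    all_goals exact fun k => by have := congrArg deg k; omega
  have sga : sgn a = 1 := by simp [sgn, da]
  have sgb : sgn b = -1 := by simp [sgn, db]
  have sgs : sgn s = 1 := by simp [sgn, ds]
  have sgs' : sgn s' = 1 := by simp [sgn, ds']
  have rel5 : ∀ g : G, ¬ 5 ∣ orderOf g →
      1 + (a : G → ℂ) g - (b : G → ℂ) g + (s : G → ℂ) g + (s' : G → ℂ) g = 0 := by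
    intro g hg
    obtain ⟨Q⟩ : Nonempty (Sylow 5 G) := inferInstance
    obtain ⟨R, Y, θ₀, -, hu, -, hr, -⟩ := hfive Q
    have h := hr g hg
    rw [hu, hquad, sga, sgb, sgs, sgs'] at h
    push_cast at h
    linear_combination h
  have zero5 : ∀ χ : IrrCharacter G, 5 ∣ deg χ → ∀ x : G, orderOf x = 5 → (χ : G → ℂ) x = 0 := by
    intro χ hd x hx
    obtain ⟨M, hM⟩ := Blocks.exists_modular (p := 5) Fact.out
    obtain ⟨Q⟩ : Nonempty (Sylow 5 G) := inferInstance
    obtain ⟨D, -⟩ := DefectOne.exists_data Q (five hG Q).1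
    exact D.vanish_of_not_blk (fun φ hφ => D.not_dvd_deg_blk hM hφ hd) (dvd_of_eq hx.symm)
  have val5 : ∀ x : G, orderOf x = 5 → ∀ χ ∈ ({a, b, s, s'} : Finset (IrrCharacter G)),
      (χ : G → ℂ) x = (sgn χ : ℂ) := by
    intro x hx
    obtain ⟨Q, hQ⟩ := exists_sylow_zpowers hx fun Q => (five hG Q).1
    obtain ⟨R, Y, θ₀, hY', hu, hdis, hr, hv⟩ := hfive Q
    have hxQ : x ∈ (Q : Subgroup G) := hQ ▸ Subgroup.mem_zpowers x
    have hx1 : x ≠ 1 := fun e => by rw [e, orderOf_one] at hx; norm_num at hx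
    have h1 := hr 1 (by rw [orderOf_one]; norm_num)
    rw [Finset.sum_union hdis, hY', Finset.sum_singleton] at h1
    have h2 := sum_mul_degree (G := G) hx1
    rw [sum_eq] at h2
    have hz : (∑ χ ∈ T, (charDegree (χ : G → ℂ) : ℂ) * (χ : G → ℂ) x) = 0 := Finset.sum_eq_zero fun χ hχ => by
      rw [zero5 χ ((dT χ).1 hχ ▸ by norm_num) x hx, mul_zero]
    rw [hz, zero5 c (dc ▸ by norm_num) x hx, zero5 d (dd ▸ by norm_num) x hx, oneChar_apply] at h2
    have h3 : 1 + ∑ χ ∈ R ∪ Y, (deg χ : ℂ) * (χ : G → ℂ) x = 0 := by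
      rw [hu, hquad]
      rw [show charDegree ((oneChar : IrrCharacter G) : G → ℂ) = 1 from deg_one] at h2
      change _ = (0 : ℂ) at h2
      push_cast at h2
      linear_combination h2
    rw [Finset.sum_union hdis, hY', Finset.sum_singleton,
      Finset.sum_congr rfl (g := fun χ : IrrCharacter G => (sgn χ : ℂ) * (χ : G → ℂ) 1) (fun χ hχ => by
        rw [hv χ hχ x hxQ hx1, deg_cast, mul_comm])] at h3
    have h4 : (θ₀ : G → ℂ) x = (sgn θ₀ : ℂ) := by
      refine mul_left_cancel₀ (b := (θ₀ : G → ℂ) x) (apply_one_ne_zero θ₀.2) ?_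
      rw [deg_cast] at h1 ⊢
      linear_combination h3 - h1
    intro χ hχ
    rw [← hu, Finset.mem_union, hY', Finset.mem_singleton] at hχ
    rcases hχ with h | h
    · exact hv χ h x hxQ hx1
    · rw [h, h4]
  exact ⟨{
    c11 := a
    c44 := b
    c45 := c
    c55 := d
    θ := s
    θ' := s'
    T := T
    hT := hT
    d11 := da
    d44 := db
    d45 := dc
    d55 := dd
    dθ := ds
    dθ' := ds'
    dT := dT
    sum_eq := sum_eq
    agree := fun g hg => S.agree s' hs'Y s hsY g hg
    rel11 := rel11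
    rel5 := rel5
    five_11 := fun x hx => by rw [val5 x hx a (by simp), sga]; simp
    five_44 := fun x hx => by rw [val5 x hx b (by simp), sgb]; simp
    five_θ := fun x hx => by rw [val5 x hx s (by simp), sgs]; simp
    five_θ' := fun x hx => by rw [val5 x hx s' (by simp), sgs']; simp
    five_zero := zero5
    unique := fun χ => ⟨(ka χ).1, (kb χ).1, (kc χ).1, (kd χ).1, (ks χ).1⟩ }⟩

namespace Data

variable (D : Data G)

omit [IsSimpleGroup G]

theorem real_11 (g : G) : conj ((D.c11 : G → ℂ) g) = (D.c11 : G → ℂ) g := by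
  rw [← starChar_apply, (D.unique (starChar D.c11)).1 (by rw [deg_starChar, D.d11])]

theorem real_44 (g : G) : conj ((D.c44 : G → ℂ) g) = (D.c44 : G → ℂ) g := by
  rw [← starChar_apply, (D.unique (starChar D.c44)).2.1 (by rw [deg_starChar, D.d44])]

theorem real_45 (g : G) : conj ((D.c45 : G → ℂ) g) = (D.c45 : G → ℂ) g := by
  rw [← starChar_apply, (D.unique (starChar D.c45)).2.2.1 (by rw [deg_starChar, D.d45])]

theorem real_55 (g : G) : conj ((D.c55 : G → ℂ) g) = (D.c55 : G → ℂ) g := by
  rw [← starChar_apply, (D.unique (starChar D.c55)).2.2.2.1 (by rw [deg_starChar, D.d55])]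

theorem real_θ (g : G) (hg : ¬ 11 ∣ orderOf g) : conj ((D.θ : G → ℂ) g) = (D.θ : G → ℂ) g := by
  rw [← starChar_apply]
  rcases (D.unique (starChar D.θ)).2.2.2.2 (by rw [deg_starChar, D.dθ]) with h | h <;> rw [h]
  exact D.agree g hg

end Data

end CfsgLib.MEleven
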