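import Cfsg.Agent.MEleven.Quaternion

/-!
# A subgroup of index 11 in a simple group of order 7920

The normaliser `A` of a Sylow 5-subgroup and a quaternion subgroup `B` meeting it in a cyclic group of order 4 fix a
vector in a representation of degree 10; the subgroup they generate has order 720.
-/

set_option autoImplicit false
set_option linter.style.haveILetI false

open Cfsg CfsgLib CfsgLib.SmallOrd CfsgLib.CharBasics
open scoped ComplexConjugate

namespace CfsgLib.MEleven

universe u

variable {G : Type u} [Group G] [Finite G] [IsSimpleGroup G]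

theorem dvd_card_ne_five (hG : Nat.card G = 7920) [Fact (Nat.Prime 5)] (P : Sylow 5 G) {a : G}
    (ha : a ∈ Subgroup.normalizer ((P : Subgroup G) : Set G)) :
    orderOf a = 1 ∨ orderOf a = 2 ∨ orderOf a = 4 ∨ (orderOf a = 5 ∧ a ∈ (P : Subgroup G)) := by
  have hd : orderOf a ∣ 20 := by
    have := orderOf_dvd_natCard (⟨a, ha⟩ : Subgroup.normalizer ((P : Subgroup G) : Set G))
    rwa [card_normalizer_five hG P, Subgroup.orderOf_mk] at this
  by_cases h5 : 5 ∣ orderOf a
  · obtain ⟨k, hk⟩ := h5
    have hx : orderOf (a ^ k) = 5 := by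
      rw [orderOf_pow, hk, Nat.gcd_eq_right (dvd_mul_left k 5), Nat.mul_div_cancel]
      rcases Nat.eq_zero_or_pos k with e | e
      · exfalso; rw [e, mul_zero] at hk; exact (orderOf_pos a).ne' hk
      · exact e
    have hmem : a ∈ Subgroup.zpowers (a ^ k) := by
      rw [← cent_five hG hx, Subgroup.mem_centralizer_singleton_iff]
      exact (Commute.refl a).pow_right k
    have := orderOf_dvd_of_mem_zpowers hmem
    rw [hx] at this
    have ho : orderOf a = 5 := Nat.dvd_antisymm this (hk ▸ dvd_mul_right 5 k)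
    right; right; right
    refine ⟨ho, ?_⟩
    have hzp : IsPGroup 5 (Subgroup.zpowers a) := IsPGroup.of_card (n := 1) (by rw [Nat.card_zpowers, ho, pow_one])
    have h := hzp.inf_normalizer_sylow P
    have hm : a ∈ Subgroup.zpowers a ⊓ Subgroup.normalizer ((P : Subgroup G) : Set G) :=
      ⟨Subgroup.mem_zpowers a, ha⟩
    rw [show Subgroup.normalizer ((P : Subgroup G) : Set G) = Subgroup.normalizer (P : Set G) from rfl, h] at hm
    exact hm.2
  · have hlt := Nat.le_of_dvd (by norm_num) hd
    interval_cases h : orderOf a <;> omega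

set_option maxHeartbeats 1000000 in
theorem exists_index_eleven (hG : Nat.card G = 7920) : ∃ H : Subgroup G, H.index = 11 := by
  classical
  haveI := Fintype.ofFinite G
  haveI : Fact (Nat.Prime 5) := ⟨by norm_num⟩
  obtain ⟨D⟩ := exists_data hG
  obtain ⟨P⟩ : Nonempty (Sylow 5 G) := inferInstance
  obtain ⟨f, hfA, hf⟩ := exists_four hG P
  set A := Subgroup.normalizer ((P : Subgroup G) : Set G) with hA
  obtain ⟨B, hB8, hfB, hB⟩ := exists_quaternion hG hf
  haveI := Fintype.ofFinite A
  haveI := Fintype.ofFinite B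
  haveI := Fintype.ofFinite ↥(A ⊓ B)
  have ht : orderOf (f ^ 2) = 2 := by rw [orderOf_pow, hf]; rfl
  obtain ⟨χ, ψ, ψ', h1, h2, h3, hmem, hχ, hψ, hψ'⟩ := exists_chi hG D ht
  have hd : deg χ = 10 := (D.dT χ).1 ((hmem χ).2 (Or.inl rfl))
  obtain ⟨-, hχf, -⟩ := four hG D hf h1 h2 h3 hmem hχ hψ hψ'
  have hval : ∀ z : G, orderOf z = 2 ∨ orderOf z = 4 → ((χ : G → ℂ) z).re = 2 := by
    intro z hz
    rcases hz with hz | hz
    · rw [apply_isConj (isCharacter_of_irr χ.2) (isConj_invol hG D hz ht), hχ]; norm_num
    · rw [apply_isConj (isCharacter_of_irr χ.2) (isConj_four hG D hz hf), hχf]; norm_num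
  have h1re : ((χ : G → ℂ) 1).re = 10 := by rw [deg_cast, hd]; norm_num
  have hinner : ∀ (K : Subgroup G) [Fintype K],
      (classInner (fun x : K => (χ : G → ℂ) x) (fun _ => 1)).re =
        (Nat.card K : ℝ)⁻¹ * ∑ x : K, ((χ : G → ℂ) x).re := by
    intro K _
    rw [classInner_eq, show ((Nat.card K : ℂ)⁻¹) = (((Nat.card K : ℝ)⁻¹ : ℝ) : ℂ) by push_cast; rfl,
      Complex.re_ofReal_mul, Complex.re_sum]
    simp
  have hP5 : Nat.card P = 5 := (five hG P).1
  have hsA : ∑ x : A, ((χ : G → ℂ) x).re = 40 := by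
    rw [Finset.sum_congr rfl (g := fun x : A => (2 : ℝ) + (if x = 1 then 10 else 0) -
      (if (x : G) ∈ (P : Subgroup G) then 2 else 0)) (fun x _ => by
        rcases dvd_card_ne_five hG P x.2 with e | e | e | ⟨e, e'⟩
        · rw [orderOf_eq_one_iff] at e
          rw [e, if_pos (Subtype.ext e), if_pos (one_mem _), h1re]; norm_num
        all_goals
          have hx1 : x ≠ 1 := fun k => by rw [k, Subgroup.coe_one, orderOf_one] at e; norm_num at e
          rw [if_neg hx1]
        · have hn : (x : G) ∉ (P : Subgroup G) := fun k => by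
            have := orderOf_dvd_natCard (⟨x, k⟩ : (P : Subgroup G))
            rw [hP5, Subgroup.orderOf_mk, e] at this
            norm_num at this
          rw [if_neg hn, hval x (Or.inl e)]; norm_num
        · have hn : (x : G) ∉ (P : Subgroup G) := fun k => by
            have := orderOf_dvd_natCard (⟨x, k⟩ : (P : Subgroup G))
            rw [hP5, Subgroup.orderOf_mk, e] at this
            norm_num at this
          rw [if_neg hn, hval x (Or.inr e)]; norm_num
        · rw [if_pos e', D.five_zero χ (by rw [hd]; norm_num) x e]; norm_num)]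
    rw [Finset.sum_sub_distrib, Finset.sum_add_distrib, Finset.sum_const, Finset.sum_ite_eq' Finset.univ (1 : A),
      if_pos (Finset.mem_univ _), ← Finset.sum_filter, Finset.sum_const, Finset.card_univ,
      ← Nat.card_eq_fintype_card, card_normalizer_five hG P, ← Fintype.card_subtype,
      ← Nat.card_eq_fintype_card, show Nat.card {x : A // (x : G) ∈ (P : Subgroup G)} = 5 from
        (Nat.card_congr (Subgroup.subgroupOfEquivOfLe (H := (P : Subgroup G)) (K := A)
          Subgroup.le_normalizer).toEquiv).trans hP5]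
    norm_num
  have hq : ∀ q ∈ B, q ≠ 1 → ((χ : G → ℂ) q).re = 2 := by
    intro q hq hq1
    rcases hB q hq with e | e | e
    · exact absurd e hq1
    · exact hval q (Or.inl (e ▸ ht))
    · exact hval q (Or.inr e.1)
  have hsum1 : ∀ (K : Subgroup G) [Fintype K], K ≤ B →
      ∑ x : K, ((χ : G → ℂ) x).re = 8 + 2 * (Nat.card K : ℝ) := by
    intro K _ hK
    rw [Finset.sum_congr rfl (g := fun x : K => (2 : ℝ) + (if x = 1 then 8 else 0)) (fun x _ => by
      by_cases h : x = 1
      · rw [if_pos h, h, Subgroup.coe_one, h1re]; norm_num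
      · rw [if_neg h, hq x (hK x.2) (fun k => h (Subtype.ext k))]; norm_num)]
    rw [Finset.sum_add_distrib, Finset.sum_const, Finset.sum_ite_eq' Finset.univ (1 : K),
      if_pos (Finset.mem_univ _), Finset.card_univ, ← Nat.card_eq_fintype_card, nsmul_eq_mul]
    ring
  have hA20 : Nat.card A = 20 := card_normalizer_five hG P
  have hI : Nat.card ↥(A ⊓ B) = 4 := by
    refine Nat.dvd_antisymm ?_ ?_
    · have h1 := Subgroup.card_dvd_of_le (inf_le_left : A ⊓ B ≤ A)
      have h2 := Subgroup.card_dvd_of_le (inf_le_right : A ⊓ B ≤ B)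
      rw [hA20] at h1
      rw [hB8] at h2
      exact Nat.dvd_gcd h1 h2
    · rw [← hf, ← Nat.card_zpowers]
      exact Subgroup.card_dvd_of_le (Subgroup.zpowers_le.2 ⟨hfA, hfB⟩)
  have hne : (χ : G → ℂ) ≠ fun _ => 1 := fun e => by
    have := congrArg (fun F => (F 1).re) e
    simp only [h1re, Complex.one_re] at this
    norm_num at this
  have hsup : A ⊔ B ≠ ⊤ := by
    refine Cfsg.Agent.S0192.result A B χ χ.2 hne ?_
    rw [hinner, hinner, hinner, hsA, hsum1 B le_rfl, hsum1 _ inf_le_right, hA20, hB8, hI]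
    norm_num
  -- the order of the subgroup they generate
  refine ⟨A ⊔ B, ?_⟩
  set H := A ⊔ B
  have hnc : ¬ IsMulCommutative G := not_comm (by rw [hG]; norm_num)
  have hfac := two_mul_card_dvd_factorial hnc H hsup
  rw [hG] at hfac
  have hidx : 11 ≤ H.index := by
    by_contra hlt
    have hd := hfac.trans (Nat.factorial_dvd_factorial (show H.index ≤ 10 by omega))
    norm_num [Nat.factorial] at hd
  have hPH : (P : Subgroup G) ≤ H := Subgroup.le_normalizer.trans le_sup_left
  set PH : Sylow 5 H := P.subtype hPH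
  have hN : Nat.card (Subgroup.normalizer ((PH : Subgroup H) : Set H)) = 20 := by
    rw [show Subgroup.normalizer ((PH : Subgroup H) : Set H) = A.subgroupOf H by
      ext ⟨z, hz⟩
      rw [Subgroup.mem_subgroupOf, Subgroup.mem_normalizer_iff, hA, Subgroup.mem_normalizer_iff]
      constructor
      · intro h w
        constructor
        · intro hw
          exact (h ⟨w, hPH hw⟩).1 hw
        · intro hw
          have hwH : w ∈ H := by
            have := mul_mem (mul_mem (inv_mem hz) (hPH hw)) hz
            rwa [show z⁻¹ * (z * w * z⁻¹) * z = w by group] at this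
          exact (h ⟨w, hwH⟩).2 hw
      · intro h w
        exact h (w : G)]
    rw [Nat.card_congr (Subgroup.subgroupOfEquivOfLe (le_sup_left : A ≤ H)).toEquiv, hA20]
  have hcard : 20 * Nat.card (Sylow 5 H) = Nat.card H := by
    rw [PH.card_eq_index_normalizer, ← hN]
    exact Subgroup.card_mul_index _
  have hmod : Nat.card (Sylow 5 H) % 5 = 1 := by
    simpa [Nat.ModEq] using card_sylow_modEq_one 5 H
  have h8 : 8 ∣ Nat.card H := hB8 ▸ Subgroup.card_dvd_of_le le_sup_right
  have hmul := Subgroup.card_mul_index H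
  rw [hG, ← hcard] at hmul
  have hn : Nat.card (Sylow 5 H) ≠ 6 := by
    intro hn6
    haveI : IsMulCommutative (P : Subgroup G) := by
      haveI : IsCyclic (P : Subgroup G) := isCyclic_of_prime_card hP5
      exact IsCyclic.isMulCommutative
    set t : H := ⟨f ^ 2, pow_mem ((le_sup_right : B ≤ H) hfB) 2⟩
    -- a point stabiliser in `B` contains `f ^ 2`
    have hfix : ∀ R : Sylow 5 H, t • R = R := by
      intro R
      by_contra hR
      have hinj : Function.Injective
          fun b : B => (⟨(b : G), (le_sup_right : B ≤ H) b.2⟩ : H) • R := by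
        intro b c hbc
        by_contra hne'
        have he : (⟨((c⁻¹ * b : B) : G), (le_sup_right : B ≤ H) (c⁻¹ * b).2⟩ : H) • R = R := by
          rw [show (⟨((c⁻¹ * b : B) : G), _⟩ : H) =
            (⟨(c : G), (le_sup_right : B ≤ H) c.2⟩ : H)⁻¹ * ⟨(b : G), (le_sup_right : B ≤ H) b.2⟩ from
            Subtype.ext (by simp)]
          rw [mul_smul, show (⟨(b : G), _⟩ : H) • R = _ from hbc, inv_smul_smul]
        have hne1 : ((c⁻¹ * b : B) : G) ≠ 1 := fun e => hne' (by
          have e' : c⁻¹ * b = 1 := Subtype.ext e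
          exact (inv_mul_eq_one.1 e').symm)
        rcases hB _ (c⁻¹ * b).2 with e | e | ⟨-, e⟩
        · exact hne1 e
        · exact hR ((congrArg (· • R) (show t = ⟨_, _⟩ from Subtype.ext e.symm)).trans he)
        · refine hR ?_
          rw [show t = (⟨((c⁻¹ * b : B) : G), (le_sup_right : B ≤ H) (c⁻¹ * b).2⟩ : H) ^ 2 from
            Subtype.ext (by rw [Subgroup.coe_pow]; exact e.symm), sq, mul_smul, he, he]
      have := Nat.card_le_card_of_injective _ hinj
      omega
    have htP : t ∈ Subgroup.normalizer (PH : Set H) := Sylow.smul_eq_iff_mem_normalizer.1 (hfix PH)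
    obtain ⟨⟨x, hx⟩, hxo⟩ := exists_prime_orderOf_dvd_card' (G := (P : Subgroup G)) 5 (by rw [hP5])
    rw [Subgroup.orderOf_mk] at hxo
    set x' : H := ⟨x, hPH hx⟩
    set c : H := t * x' * t⁻¹ * x'⁻¹ with hc
    have hcker : ∀ R : Sylow 5 H, c • R = R := by
      intro R
      have h1 : ∀ R : Sylow 5 H, t⁻¹ • R = R := fun R => inv_smul_eq_iff.2 (hfix R).symm
      rw [hc, mul_smul, mul_smul, mul_smul, h1, smul_inv_smul, hfix]
    have htx : t * x' * t⁻¹ ∈ (PH : Subgroup H) := (Subgroup.mem_normalizer_iff.1 htP x').1 hx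
    have hcP : (c : G) ∈ (P : Subgroup G) := mul_mem (show ((t * x' * t⁻¹ : H) : G) ∈ _ from htx) (inv_mem hx)
    have hc1 : c ≠ 1 := fun e => by
      rw [hc, mul_inv_eq_one, mul_inv_eq_iff_eq_mul] at e
      have hm : f ^ 2 ∈ Subgroup.zpowers x := by
        rw [← cent_five hG hxo, Subgroup.mem_centralizer_singleton_iff]
        exact congrArg Subtype.val e
      have := orderOf_dvd_of_mem_zpowers hm
      rw [ht, hxo] at this
      norm_num at this
    have hall : ∀ R : Sylow 5 H, R = PH := by
      intro R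
      have hc5 : orderOf c = 5 := by
        have h5 := orderOf_dvd_natCard (⟨(c : G), hcP⟩ : (P : Subgroup G))
        rw [hP5, Subgroup.orderOf_mk, Subgroup.orderOf_coe] at h5
        exact ((Nat.dvd_prime (by norm_num)).1 h5).resolve_left fun e => hc1 (orderOf_eq_one_iff.1 e)
      have hcN : c ∈ Subgroup.normalizer (R : Set H) := Sylow.smul_eq_iff_mem_normalizer.1 (hcker R)
      have hcR : c ∈ (R : Subgroup H) := by
        have h := (IsPGroup.of_card (p := 5) (n := 1) (G := Subgroup.zpowers c)
          (by rw [Nat.card_zpowers, hc5, pow_one])).inf_normalizer_sylow R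
        have hm : c ∈ Subgroup.zpowers c ⊓ Subgroup.normalizer (R : Set H) := ⟨Subgroup.mem_zpowers c, hcN⟩
        rw [h] at hm
        exact hm.2
      have hcard5 : ∀ S : Sylow 5 H, Nat.card S = 5 := fun S => by
        rw [sylow_card (k := 1) (m := 4 * Nat.card (Sylow 5 H)) (by rw [← hcard]; ring)
          (by rw [hn6]; norm_num) S, pow_one]
      have e1 : Subgroup.zpowers c = (R : Subgroup H) :=
        Subgroup.eq_of_le_of_card_ge (Subgroup.zpowers_le.2 hcR) (by rw [hcard5 R, Nat.card_zpowers, hc5])
      have e2 : Subgroup.zpowers c = (PH : Subgroup H) :=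
        Subgroup.eq_of_le_of_card_ge (Subgroup.zpowers_le.2 hcP) (by rw [hcard5 PH, Nat.card_zpowers, hc5])
      exact Sylow.ext (e1.symm.trans e2)
    haveI : Subsingleton (Sylow 5 H) := ⟨fun a b => (hall a).trans (hall b).symm⟩
    have := Nat.card_unique (α := Sylow 5 H)
    omega
  set n := Nat.card (Sylow 5 H)
  set i := H.index
  rw [← hcard] at h8
  obtain ⟨j, hj⟩ := h8
  have hni : n * i = 396 := by
    refine Nat.eq_of_mul_eq_mul_left (show 0 < 20 by norm_num) ?_
    rw [← mul_assoc, hmul]
  have hi36 : i ≤ 36 ∨ n ≤ 11 := by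
    by_contra h
    push Not at h
    nlinarith
  have hn36 : n ≤ 36 := by nlinarith
  interval_cases n <;> omega

end CfsgLib.MEleven
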