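import Cfsg.Agent.MEleven.Data

/-!
# The column of an involution in a simple group of order 7920

`invol` : every involution has centraliser of order 48 and the values `3, 4, -3, -1, 0, ±2`;
`isConj_invol` : there is one class of involutions; `isConj_five` : one class of elements of order 5.
-/

set_option autoImplicit false
set_option linter.style.haveILetI false

open Cfsg CfsgLib CfsgLib.SmallOrd CfsgLib.CharBasics
open scoped ComplexConjugate

namespace CfsgLib.MEleven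

universe u

variable {G : Type u} [Group G] [Finite G] [IsSimpleGroup G]

omit [IsSimpleGroup G] in
theorem deg_rel (D : Data G) {g : G} (hg : g ≠ 1) :
    1 + 11 * (D.c11 : G → ℂ) g + 44 * (D.c44 : G → ℂ) g + 45 * (D.c45 : G → ℂ) g + 55 * (D.c55 : G → ℂ) g +
      16 * (D.θ : G → ℂ) g + 16 * (D.θ' : G → ℂ) g + 10 * ∑ χ ∈ D.T, (χ : G → ℂ) g = 0 := by
  haveI := Fintype.ofFinite G
  haveI := Fintype.ofFinite (IrrCharacter G)
  have h := sum_mul_degree (G := G) hg
  rw [D.sum_eq, Finset.sum_congr rfl (g := fun χ : IrrCharacter G => 10 * (χ : G → ℂ) g) (fun χ hχ => by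
    rw [show charDegree (χ : G → ℂ) = 10 from (D.dT χ).1 hχ]; norm_num), ← Finset.mul_sum, oneChar_apply] at h
  rw [show charDegree ((oneChar : IrrCharacter G) : G → ℂ) = 1 from deg_one,
    show charDegree (D.c11 : G → ℂ) = 11 from D.d11, show charDegree (D.c44 : G → ℂ) = 44 from D.d44,
    show charDegree (D.c45 : G → ℂ) = 45 from D.d45, show charDegree (D.c55 : G → ℂ) = 55 from D.d55,
    show charDegree (D.θ : G → ℂ) = 16 from D.dθ, show charDegree (D.θ' : G → ℂ) = 16 from D.dθ'] at h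
  push_cast at h
  linear_combination h

theorem col (D : Data G) (g h : G) [Decidable (IsConj g h)] :
    1 + (D.c11 : G → ℂ) g * conj ((D.c11 : G → ℂ) h) + (D.c44 : G → ℂ) g * conj ((D.c44 : G → ℂ) h) +
      (D.c45 : G → ℂ) g * conj ((D.c45 : G → ℂ) h) + (D.c55 : G → ℂ) g * conj ((D.c55 : G → ℂ) h) +
      (D.θ : G → ℂ) g * conj ((D.θ : G → ℂ) h) + (D.θ' : G → ℂ) g * conj ((D.θ' : G → ℂ) h) +
      ∑ χ ∈ D.T, (χ : G → ℂ) g * conj ((χ : G → ℂ) h) =
      if IsConj g h then (Nat.card (Subgroup.centralizer ({g} : Set G)) : ℂ) else 0 := by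
  haveI := Fintype.ofFinite G
  haveI := Fintype.ofFinite (IrrCharacter G)
  rw [← sum_col g h, D.sum_eq]
  rw [oneChar_apply, oneChar_apply, map_one, mul_one]

theorem arith : ∀ a ∈ ([-9, -5, -1, 3, 7, 11] : List ℤ), ∀ e ∈ ([-8, -4, 0, 4, 8] : List ℤ),
    ∀ n ∈ (List.range 145).filter (fun n : ℕ => n ∣ 144),
      ((15 + a * a + (1 + a + 2 * e) * (1 + a + 2 * e) + 2 * (e * e) ≤ (n : ℤ) →
          88 + 8 * (a * a) + 11 * (e * e) - 2 * ((1 + a + 2 * e) * (1 + a + 2 * e)) ≠ 0) ∧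
        (15 + a * a + (1 + a + 2 * e) * (1 + a + 2 * e) + 2 * (e * e) ≤ (n : ℤ) →
          (n : ℤ) * n = 18 * (88 + 8 * (a * a) + 11 * (e * e) - 2 * ((1 + a + 2 * e) * (1 + a + 2 * e))) →
            a = 3 ∧ e = 0 ∧ n = 48)) := by
  decide +kernel

omit [IsSimpleGroup G] in
theorem int_sum_cast {ι : Type*} (s : Finset ι) {f : ι → ℂ} {v : ι → ℤ} (h : ∀ i ∈ s, f i = (v i : ℂ)) :
    ∑ i ∈ s, f i = ((∑ i ∈ s, v i : ℤ) : ℂ) := by
  rw [Finset.sum_congr rfl h, Int.cast_sum]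

set_option maxHeartbeats 1000000 in
theorem invol (hG : Nat.card G = 7920) (D : Data G) {s : G} (hs : orderOf s = 2) :
    Nat.card (Subgroup.centralizer ({s} : Set G)) = 48 ∧ (D.c11 : G → ℂ) s = 3 ∧ (D.c44 : G → ℂ) s = 4 ∧
      (D.c45 : G → ℂ) s = -3 ∧ (D.c55 : G → ℂ) s = -1 ∧ (D.θ : G → ℂ) s = 0 ∧ (D.θ' : G → ℂ) s = 0 ∧
      (∑ χ ∈ D.T, (χ : G → ℂ) s = -2) ∧ ∀ χ ∈ D.T, (χ : G → ℂ) s = 2 ∨ (χ : G → ℂ) s = -2 := by
  classical
  haveI := Fintype.ofFinite G
  haveI := Fintype.ofFinite (IrrCharacter G)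
  have hnc : ¬ IsMulCommutative G := not_comm (by rw [hG]; norm_num)
  have hne : ∀ {χ : IrrCharacter G}, deg χ ≠ 1 → χ ≠ oneChar := fun h e => h (by rw [e, deg_one])
  have hs11 : ¬ 11 ∣ orderOf s := by rw [hs]; norm_num
  have hs5 : ¬ 5 ∣ orderOf s := by rw [hs]; norm_num
  have hs1 : s ≠ 1 := fun e => by rw [e, orderOf_one] at hs; norm_num at hs
  have val : ∀ (χ : IrrCharacter G) (d : ℕ), deg χ = d → d ≠ 1 →
      ∃ a : ℤ, (χ : G → ℂ) s = (a : ℂ) ∧ |a| < (d : ℤ) ∧ 4 ∣ a - (d : ℤ) := fun χ d hd h1 => by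
    subst hd
    exact exists_involution_value hnc χ (hne h1) hs
  obtain ⟨a, ha, hal, ha4⟩ := val D.c11 11 D.d11 (by norm_num)
  obtain ⟨b, hb, hbl, hb4⟩ := val D.c44 44 D.d44 (by norm_num)
  obtain ⟨c, hc, hcl, hc4⟩ := val D.c45 45 D.d45 (by norm_num)
  obtain ⟨d, hd, hdl, hd4⟩ := val D.c55 55 D.d55 (by norm_num)
  obtain ⟨e, he, hel, he4⟩ := val D.θ 16 D.dθ (by norm_num)
  have he' : (D.θ' : G → ℂ) s = (e : ℂ) := (D.agree s hs11).trans he
  choose! v hv using fun χ (hχ : χ ∈ D.T) => val χ 10 ((D.dT χ).1 hχ) (by norm_num)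
  set S : ℤ := ∑ χ ∈ D.T, v χ with hS
  have hTs : ∑ χ ∈ D.T, (χ : G → ℂ) s = (S : ℂ) := int_sum_cast _ fun χ hχ => (hv χ hχ).1
  set Q : ℤ := ∑ χ ∈ D.T, v χ * v χ with hQ
  have hQs : ∑ χ ∈ D.T, (χ : G → ℂ) s * conj ((χ : G → ℂ) s) = (Q : ℂ) := by
    refine int_sum_cast _ fun χ hχ => ?_
    rw [(hv χ hχ).1, map_intCast]
    push_cast
    ring
  set n := Nat.card (Subgroup.centralizer ({s} : Set G)) with hn
  have eA : 1 + a - b + 2 * e = 0 := by
    have h := D.rel5 s hs5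
    rw [ha, hb, he, he'] at h
    have : ((1 + a - b + 2 * e : ℤ) : ℂ) = 0 := by push_cast; linear_combination h
    exact_mod_cast this
  have eB : 1 + c - S - e = 0 := by
    have h := D.rel11 s hs11
    rw [hc, hTs, he] at h
    exact_mod_cast h
  have eD : 1 + 11 * a + 44 * b + 45 * c + 55 * d + 16 * e + 16 * e + 10 * S = 0 := by
    have h := deg_rel D hs1
    rw [ha, hb, hc, hd, he, he', hTs] at h
    exact_mod_cast h
  have eN : 1 + a * a + b * b + c * c + d * d + e * e + e * e + Q = (n : ℤ) := by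
    have h := col D s s
    rw [if_pos (IsConj.refl s), hQs, ha, hb, hc, hd, he, he'] at h
    simp only [map_intCast] at h
    exact_mod_cast h
  have hQ12 : 12 ≤ Q := by
    have h4 : ∀ χ ∈ D.T, (4 : ℤ) ≤ v χ * v χ := fun χ hχ => by
      obtain ⟨-, -, h⟩ := hv χ hχ
      obtain ⟨k, hk⟩ := h
      rcases le_or_gt 0 k with h0 | h0 <;> [skip; skip] <;>
        (have : 2 ≤ v χ ∨ v χ ≤ -2 := by omega
         rcases this with g | g <;> nlinarith)
    have := Finset.card_nsmul_le_sum D.T (fun χ => v χ * v χ) 4 h4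
    rw [D.hT] at this
    simpa using this
  have hn144 : n ∣ 144 := cent_dvd hG hs1 hs5 hs11
  have hnle : (n : ℤ) ≤ 144 := by exact_mod_cast Nat.le_of_dvd (by norm_num) hn144
  have hc1 : 1 ≤ c * c := by
    obtain ⟨k, hk⟩ := hc4
    have : 1 ≤ c ∨ c ≤ -1 := by omega
    rcases this with g | g <;> nlinarith
  have hd1 : 1 ≤ d * d := by
    obtain ⟨k, hk⟩ := hd4
    have : 1 ≤ d ∨ d ≤ -1 := by omega
    rcases this with g | g <;> nlinarith
  have hbe : b = 1 + a + 2 * e := by omega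
  subst hbe
  have hlow : 15 + a * a + (1 + a + 2 * e) * (1 + a + 2 * e) + 2 * (e * e) ≤ (n : ℤ) := by linarith
  have hmem : a ∈ ([-9, -5, -1, 3, 7, 11] : List ℤ) ∧ e ∈ ([-8, -4, 0, 4, 8] : List ℤ) ∧
      n ∈ (List.range 145).filter (fun n : ℕ => n ∣ 144) := by
    have h1 : a * a ≤ 129 := by nlinarith
    have h2 : e * e ≤ 64 := by nlinarith
    have h3 : a ≤ 11 ∧ -11 ≤ a := ⟨by nlinarith, by nlinarith⟩
    have h4 : e ≤ 8 ∧ -8 ≤ e := ⟨by nlinarith, by nlinarith⟩
    refine ⟨?_, ?_, List.mem_filter.2 ⟨List.mem_range.2 (by omega), by simpa using hn144⟩⟩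
    · obtain ⟨k, hk⟩ := ha4
      simp only [List.mem_cons, List.not_mem_nil, or_false]
      omega
    · obtain ⟨k, hk⟩ := he4
      simp only [List.mem_cons, List.not_mem_nil, or_false]
      omega
  obtain ⟨har0, har⟩ := arith a hmem.1 e hmem.2.1 n hmem.2.2
  -- the class algebra at an element of order five
  obtain ⟨x, hx⟩ : ∃ x : G, orderOf x = 5 := by
    haveI : Fact (Nat.Prime 5) := ⟨by norm_num⟩
    exact exists_prime_orderOf_dvd_card' 5 (by rw [hG]; norm_num)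
  obtain ⟨M, hM, hMeq⟩ := structure_constant s x
  have hval : (n : ℂ) * M * 88 = 7920 * (88 + 8 * ((a : ℂ) * a) + 11 * ((e : ℂ) * e) -
      2 * ((1 + a + 2 * e) * (1 + a + 2 * e))) := by
    rw [hn, hMeq, D.sum_eq, oneChar_apply, oneChar_apply, D.five_zero D.c45 (by rw [D.d45]; norm_num) x hx,
      D.five_zero D.c55 (by rw [D.d55]; norm_num) x hx, D.five_11 x hx, D.five_44 x hx, D.five_θ x hx,
      D.five_θ' x hx, Finset.sum_eq_zero (fun χ hχ => by
        rw [D.five_zero χ ((D.dT χ).1 hχ ▸ by norm_num) x hx, mul_zero, zero_div]),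
      deg_cast D.c11, deg_cast D.c44, deg_cast D.θ, deg_cast D.θ', D.d11, D.d44, D.dθ, D.dθ', ha, hb, he, he', hG]
    simp only [map_intCast, oneChar_apply, map_one]
    push_cast
    ring
  rcases card_structure_set (p := 5) (by norm_num) (by norm_num) hx (cent_five hG hx) hs with h0 | h5
  · exfalso
    rw [hM, h0, Nat.cast_zero, mul_zero, zero_mul] at hval
    refine har0 hlow ?_
    have h2 : (88 + 8 * ((a : ℂ) * a) + 11 * ((e : ℂ) * e) -
      2 * ((1 + a + 2 * e) * (1 + a + 2 * e))) = 0 := by linear_combination -hval / 7920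
    exact_mod_cast h2
  · rw [hM, h5, ← hn] at hval
    push_cast at hval
    have h2 : (n : ℂ) * n = 18 * (88 + 8 * ((a : ℂ) * a) + 11 * ((e : ℂ) * e) -
        2 * ((1 + a + 2 * e) * (1 + a + 2 * e))) := by linear_combination hval / 440
    obtain ⟨rfl, rfl, hn48⟩ := har hlow (by exact_mod_cast h2)
    obtain rfl : c = S - 1 := by omega
    have hd' : d = -3 - S := by omega
    subst hd'
    rw [hn48] at eN
    push_cast at eN
    have hSe : S = -2 := by
      have hb1 : S ≤ 1 := by nlinarith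
      have hb2 : -3 ≤ S := by nlinarith
      obtain ⟨k, hk⟩ := hc4
      omega
    rw [hSe] at eN hTs hc hd
    have hQ' : Q = 12 := by norm_num at eN; linarith
    refine ⟨hn48, by rw [ha]; norm_num, by rw [hb]; norm_num, by rw [hc]; norm_num, by rw [hd]; norm_num,
      by rw [he]; norm_num, by rw [he']; norm_num, by rw [hTs]; norm_num, fun χ hχ => ?_⟩
    have h4 : ∀ ψ ∈ D.T, (4 : ℤ) ≤ v ψ * v ψ := fun ψ hψ => by
      obtain ⟨-, -, ⟨k, hk⟩⟩ := hv ψ hψ
      have : 2 ≤ v ψ ∨ v ψ ≤ -2 := by omega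
      rcases this with g | g <;> nlinarith
    have hsum : ∑ ψ ∈ D.T, (v ψ * v ψ - 4) = 0 := by
      rw [Finset.sum_sub_distrib, ← hQ, hQ', Finset.sum_const, D.hT]; norm_num
    have h0 := (Finset.sum_eq_zero_iff_of_nonneg (fun ψ hψ => by linarith [h4 ψ hψ])).1 hsum χ hχ
    have h0' : (v χ - 2) * (v χ + 2) = 0 := by linarith
    rcases mul_eq_zero.1 h0' with g | g
    · left; rw [(hv χ hχ).1, show v χ = 2 by linarith]; norm_num
    · right; rw [(hv χ hχ).1, show v χ = -2 by linarith]; norm_num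

theorem isConj_invol (hG : Nat.card G = 7920) (D : Data G) {s t : G} (hs : orderOf s = 2) (ht : orderOf t = 2) :
    IsConj s t := by
  classical
  by_contra hcon
  have h := col D s t
  rw [if_neg hcon] at h
  obtain ⟨-, a1, b1, c1, d1, e1, e1', -, T1⟩ := invol hG D hs
  obtain ⟨-, a2, b2, c2, d2, e2, e2', -, T2⟩ := invol hG D ht
  rw [a1, b1, c1, d1, e1, e1', a2, b2, c2, d2, e2, e2'] at h
  have hre : -12 ≤ (∑ χ ∈ D.T, (χ : G → ℂ) s * conj ((χ : G → ℂ) t)).re := by
    rw [Complex.re_sum]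
    have := Finset.card_nsmul_le_sum D.T (fun χ : IrrCharacter G => ((χ : G → ℂ) s * conj ((χ : G → ℂ) t)).re) (-4)
      (fun χ hχ => by rcases T1 χ hχ with g | g <;> rcases T2 χ hχ with g' | g' <;> rw [g, g'] <;> norm_num)
    rw [D.hT, nsmul_eq_mul] at this
    push_cast at this
    linarith
  simp only [map_ofNat, map_neg, map_one, map_zero] at h
  have h2 : ∑ χ ∈ D.T, (χ : G → ℂ) s * conj ((χ : G → ℂ) t) = -36 := by linear_combination h
  rw [h2] at hre
  norm_num at hre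

theorem isConj_five (hG : Nat.card G = 7920) (D : Data G) {x y : G} (hx : orderOf x = 5) (hy : orderOf y = 5) :
    IsConj x y := by
  classical
  by_contra hcon
  have h := col D x y
  rw [if_neg hcon, D.five_11 x hx, D.five_11 y hy, D.five_44 x hx, D.five_44 y hy, D.five_θ x hx,
    D.five_θ y hy, D.five_θ' x hx, D.five_θ' y hy, D.five_zero D.c45 (by rw [D.d45]; norm_num) x hx,
    D.five_zero D.c55 (by rw [D.d55]; norm_num) x hx,
    Finset.sum_eq_zero (fun χ hχ => by rw [D.five_zero χ ((D.dT χ).1 hχ ▸ by norm_num) x hx, zero_mul])] at h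
  simp only [map_one, map_neg, zero_mul] at h
  norm_num at h

end CfsgLib.MEleven
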