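import Cfsg.Agent.MEleven.Four
import Cfsg.Agent.S0192

/-!
# The centraliser of an involution: no elementary abelian subgroup of order 8, a quaternion subgroup

`no_elementary` : there is no subgroup of order 8 and exponent 2;
`exists_quaternion` : every element `f` of order 4 lies in a subgroup of order 8 in which `f ^ 2` is the only
involution.
-/

set_option autoImplicit false
set_option linter.style.haveILetI false

open Cfsg CfsgLib CfsgLib.SmallOrd CfsgLib.CharBasics
open scoped ComplexConjugate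

namespace CfsgLib.MEleven

universe u

variable {G : Type u} [Group G] [Finite G]

theorem sum_eq_natCast (χ : IrrCharacter G) (H : Subgroup G) [Fintype H] :
    ∃ k : ℕ, ∑ x : H, ((χ : G → ℂ) x).re = (Nat.card H * k : ℕ) := by
  obtain ⟨n, ρ, -, hρ⟩ := χ.2
  refine ⟨Module.finrank ℂ (Representation.invariants (ρ.comp H.subtype)), ?_⟩
  have h := Cfsg.Agent.S0192.fixed_dim (ρ.comp H.subtype)
  rw [Nat.cast_mul, ← h, classInner_eq]
  have e : ∑ g : H, Representation.character (ρ.comp H.subtype) g * conj ((fun _ => 1 : H → ℂ) g) =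
      ∑ x : H, (χ : G → ℂ) x := Finset.sum_congr rfl fun x _ => by
    rw [map_one, mul_one, ← hρ]; rfl
  rw [e, show ((Nat.card H : ℂ)⁻¹) = (((Nat.card H : ℝ)⁻¹ : ℝ) : ℂ) by push_cast; rfl, Complex.re_ofReal_mul,
    Complex.re_sum, mul_inv_cancel_left₀]
  exact_mod_cast Nat.card_pos.ne'

variable [IsSimpleGroup G]

theorem no_elementary (hG : Nat.card G = 7920) (E : Subgroup G) (h8 : Nat.card E = 8)
    (hE : ∀ e ∈ E, e * e = 1) : False := by
  classical
  haveI := Fintype.ofFinite E
  obtain ⟨D⟩ := exists_data hG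
  haveI : Fact (Nat.Prime 2) := ⟨by norm_num⟩
  obtain ⟨⟨s, hs⟩, hs2⟩ := exists_prime_orderOf_dvd_card' (G := E) 2 (by rw [h8]; norm_num)
  rw [Subgroup.orderOf_mk] at hs2
  obtain ⟨χ, ψ, ψ', -, -, -, hmem, -, hψ, -⟩ := exists_chi hG D hs2
  obtain ⟨k, hk⟩ := sum_eq_natCast ψ E
  have hval : ∀ e : E, e ≠ 1 → ((ψ : G → ℂ) e).re = -2 := by
    rintro ⟨e, he⟩ hne
    have ho : orderOf e = 2 := orderOf_eq_prime (by rw [sq]; exact hE e he) (fun h => hne (Subtype.ext h))
    rw [show (ψ : G → ℂ) e = -2 from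
      (apply_isConj (isCharacter_of_irr ψ.2) (isConj_invol hG D ho hs2)).trans hψ]
    norm_num
  rw [← Finset.add_sum_erase _ _ (Finset.mem_univ (1 : E)),
    Finset.sum_congr rfl (fun e he => hval e (Finset.mem_erase.1 he).1), Finset.sum_const,
    Finset.card_erase_of_mem (Finset.mem_univ _), Finset.card_univ, ← Nat.card_eq_fintype_card, h8,
    Subgroup.coe_one, deg_cast, show deg ψ = 10 from (D.dT ψ).1 ((hmem ψ).2 (Or.inr (Or.inl rfl)))] at hk
  push_cast at hk
  norm_num at hk
  have : (0 : ℝ) ≤ 8 * (k : ℝ) := by positivity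
  linarith

theorem three_part (hG : Nat.card G = 7920) (D : Data G) {u : G} (hu : orderOf u = 3) (H : Subgroup G)
    (hle : H ≤ Subgroup.centralizer ({u} : Set G)) : ¬ 4 ∣ Nat.card H := by
  intro h4
  haveI : Fact (Nat.Prime 2) := ⟨by norm_num⟩
  obtain ⟨K, hK⟩ := Sylow.exists_subgroup_card_pow_prime (G := H) 2 (n := 2) (by simpa using h4)
  exact no_four hG D hu (K.map H.subtype)
    (by rw [Nat.card_congr (K.equivMapOfInjective _ H.subtype_injective).symm.toEquiv, hK]; norm_num)
    ((Subgroup.map_subtype_le K).trans hle)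

/-- A copy of the Klein four group in `Perm (Fin 4)`. -/
def klein : Subgroup (Equiv.Perm (Fin 4)) where
  carrier := {σ | σ = 1 ∨ σ = Equiv.swap 0 1 * Equiv.swap 2 3 ∨ σ = Equiv.swap 0 2 * Equiv.swap 1 3 ∨
    σ = Equiv.swap 0 3 * Equiv.swap 1 2}
  one_mem' := Or.inl rfl
  mul_mem' := by
    rintro a b (rfl | rfl | rfl | rfl) (rfl | rfl | rfl | rfl) <;> simp only [Set.mem_setOf_eq] <;> decide
  inv_mem' := by
    rintro a (rfl | rfl | rfl | rfl) <;> simp only [Set.mem_setOf_eq] <;> decide

theorem mem_klein (σ : Equiv.Perm (Fin 4)) : σ ∈ klein ↔ σ = 1 ∨ σ = Equiv.swap 0 1 * Equiv.swap 2 3 ∨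
    σ = Equiv.swap 0 2 * Equiv.swap 1 3 ∨ σ = Equiv.swap 0 3 * Equiv.swap 1 2 := Iff.rfl

theorem klein_sq : ∀ σ : Equiv.Perm (Fin 4), σ ∈ klein → σ * σ = 1 := by
  intro σ h
  rcases (mem_klein σ).1 h with rfl | rfl | rfl | rfl <;> decide

theorem klein_conj : ∀ σ τ : Equiv.Perm (Fin 4), σ ∈ klein → τ ∈ klein → σ ≠ 1 → τ ≠ 1 →
    ∃ g : Equiv.Perm (Fin 4), g * σ * g⁻¹ = τ := by
  intro σ τ h h'
  rcases (mem_klein σ).1 h with rfl | rfl | rfl | rfl <;>
    rcases (mem_klein τ).1 h' with rfl | rfl | rfl | rfl <;> decide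

theorem card_klein : Nat.card klein = 4 := by
  rw [Nat.card_congr (Equiv.subtypeEquivRight mem_klein), Nat.card_eq_fintype_card]
  decide

set_option maxHeartbeats 1000000 in
theorem exists_quaternion (hG : Nat.card G = 7920) {f : G} (hf : orderOf f = 4) :
    ∃ Q : Subgroup G, Nat.card Q = 8 ∧ f ∈ Q ∧
      ∀ q ∈ Q, q = 1 ∨ q = f ^ 2 ∨ (orderOf q = 4 ∧ q ^ 2 = f ^ 2) := by
  classical
  obtain ⟨D⟩ := exists_data hG
  haveI : Fact (Nat.Prime 3) := ⟨by norm_num⟩
  haveI : Fact (Nat.Prime 2) := ⟨by norm_num⟩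
  set t := f ^ 2 with ht
  have ht2 : orderOf t = 2 := by rw [ht, orderOf_pow, hf]; rfl
  have hC : Nat.card (Subgroup.centralizer ({t} : Set G)) = 48 := (invol hG D ht2).1
  let t' : Subgroup.centralizer ({t} : Set G) := ⟨t, mem_cent_self t⟩
  have ht' : orderOf t' = 2 := by rw [Subgroup.orderOf_mk, ht2]
  have htc : ∀ c : Subgroup.centralizer ({t} : Set G), t' * c = c * t' := fun c =>
    Subtype.ext (Subgroup.mem_centralizer_singleton_iff.1 c.2).symm
  have hcard : ∀ U : Sylow 3 (Subgroup.centralizer ({t} : Set G)), Nat.card U = 3 := fun U => by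
    rw [sylow_card (k := 1) (m := 16) (by rw [hC]; norm_num) (by norm_num) U]; norm_num
  have hgen : ∀ U : Sylow 3 (Subgroup.centralizer ({t} : Set G)),
      ∃ u : Subgroup.centralizer ({t} : Set G), (U : Subgroup (Subgroup.centralizer ({t} : Set G))) = Subgroup.zpowers u ∧ orderOf (u : G) = 3 := by
    intro U
    obtain ⟨⟨u, hu⟩, huo⟩ := exists_prime_orderOf_dvd_card' (G := (U : Subgroup (Subgroup.centralizer ({t} : Set G)))) 3 (by rw [hcard U])
    rw [Subgroup.orderOf_mk] at huo
    exact ⟨u, (Subgroup.eq_of_le_of_card_ge (Subgroup.zpowers_le.2 hu)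
      (by rw [hcard U, Nat.card_zpowers, huo])).symm, by rw [Subgroup.orderOf_coe, huo]⟩
  obtain ⟨U₀⟩ : Nonempty (Sylow 3 (Subgroup.centralizer ({t} : Set G))) := inferInstance
  have hN : ∀ U : (Sylow 3 (Subgroup.centralizer ({t} : Set G))), Nat.card (Subgroup.normalizer (U : Set (Subgroup.centralizer ({t} : Set G)))) *
      Nat.card (Sylow 3 (Subgroup.centralizer ({t} : Set G))) = 48 := fun U => by
    rw [U.card_eq_index_normalizer, Subgroup.card_mul_index, hC]
  have hX : Nat.card (Sylow 3 (Subgroup.centralizer ({t} : Set G))) = 4 := by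
    have hmod : Nat.card (Sylow 3 (Subgroup.centralizer ({t} : Set G))) % 3 = 1 := by
      have := card_sylow_modEq_one 3 (Subgroup.centralizer ({t} : Set G))
      simpa [Nat.ModEq] using this
    have hdiv : Nat.card (Sylow 3 (Subgroup.centralizer ({t} : Set G))) ∣ 48 := Dvd.intro_left _ (hN U₀)
    have hle := Nat.le_of_dvd (by norm_num) hdiv
    have h3 : 3 ∣ Nat.card (Subgroup.normalizer
        (U₀ : Set (Subgroup.centralizer ({t} : Set G)))) := by
      exact (dvd_of_eq (hcard U₀).symm).trans (Subgroup.card_dvd_of_le Subgroup.le_normalizer)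
    obtain ⟨u, hUu, hu3⟩ := hgen U₀
    have htN : t' ∈ Subgroup.normalizer (U₀ : Set (Subgroup.centralizer ({t} : Set G))) := by
      refine Subgroup.mem_normalizer_iff.2 fun h => ?_
      rw [htc, mul_inv_cancel_right]
    have h2 : 2 ∣ Nat.card (Subgroup.normalizer
        (U₀ : Set (Subgroup.centralizer ({t} : Set G)))) := by
      rw [← ht', ← Nat.card_zpowers]; exact Subgroup.card_dvd_of_le (Subgroup.zpowers_le.2 htN)
    have h6 := Nat.Coprime.mul_dvd_of_dvd_of_dvd (by norm_num : Nat.Coprime 2 3) h2 h3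
    have hne : Nat.card (Sylow 3 (Subgroup.centralizer ({t} : Set G))) ≠ 1 := by
      intro h1
      haveI : Subsingleton (Sylow 3 (Subgroup.centralizer ({t} : Set G))) := (Nat.card_eq_one_iff_unique.1 h1).1
      -- the centraliser of `u` in the centraliser of `t` has index at most two
      have hcl : (Subgroup.centralizer ({u} : Set (Subgroup.centralizer ({t} : Set G)))).index ≤ 2 := by
        rw [← card_conjClass]
        have hsub : ∀ x, IsConj u x → x = u ∨ x = u⁻¹ := fun x hx => by
          obtain ⟨c, rfl⟩ := isConj_iff.1 hx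
          have hnorm : (U₀ : Subgroup (Subgroup.centralizer ({t} : Set G))).Normal := Sylow.normal_of_subsingleton U₀
          have hm := hnorm.conj_mem u (hUu ▸ Subgroup.mem_zpowers u) c
          rw [hUu] at hm
          obtain ⟨k, hk, hk'⟩ : ∃ k < orderOf u, u ^ k = c * u * c⁻¹ := by
            obtain ⟨k, hk⟩ := mem_powers_iff_mem_zpowers.2 hm
            exact ⟨k % orderOf u, Nat.mod_lt _ (orderOf_pos u), (pow_mod_orderOf u k).trans hk⟩
          rw [Subgroup.orderOf_coe] at hu3
          rw [hu3] at hk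
          interval_cases k
          · exfalso
            have : c * u * c⁻¹ = 1 := by rw [← hk', pow_zero]
            rw [conj_eq_one_iff] at this
            rw [this, orderOf_one] at hu3
            norm_num at hu3
          · exact Or.inl (by rw [← hk', pow_one])
          · refine Or.inr ?_
            rw [← hk', eq_inv_iff_mul_eq_one, ← pow_succ]
            exact orderOf_dvd_iff_pow_eq_one.1 (dvd_of_eq hu3)
        have hs2 : {x | IsConj u x} ⊆ ({u, u⁻¹} : Set (Subgroup.centralizer ({t} : Set G))) :=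
          fun x hx => by simpa using hsub x hx
        have := Set.ncard_le_ncard hs2 (Set.toFinite _)
        rw [← Nat.card_coe_set_eq] at this
        refine this.trans ((Set.ncard_insert_le _ _).trans ?_)
        rw [Set.ncard_singleton]
      have hmul := Subgroup.card_mul_index (Subgroup.centralizer ({u} : Set (Subgroup.centralizer ({t} : Set G))))
      rw [hC] at hmul
      refine three_part hG D hu3 ((Subgroup.centralizer ({u} : Set _)).map (Subgroup.subtype _)) ?_ ?_
      · rintro z ⟨z, hz, rfl⟩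
        rw [Subgroup.mem_centralizer_singleton_iff]
        exact congrArg Subtype.val (Subgroup.mem_centralizer_singleton_iff.1 hz)
      · rw [← Nat.card_congr (Subgroup.equivMapOfInjective _ _ (Subgroup.subtype_injective _)).toEquiv]
        have hpos : 0 < (Subgroup.centralizer ({u} : Set (Subgroup.centralizer ({t} : Set G)))).index :=
          Nat.pos_of_ne_zero Subgroup.index_ne_zero_of_finite
        interval_cases h : (Subgroup.centralizer ({u} : Set (Subgroup.centralizer ({t} : Set G)))).index <;> omega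
    have hN0 := hN U₀
    obtain ⟨m, hm⟩ := h6
    rw [hm] at hN0
    have : Nat.card (Sylow 3 (Subgroup.centralizer ({t} : Set G))) ∣ 8 := Dvd.intro_left m (by nlinarith)
    have := Nat.le_of_dvd (by norm_num) this
    interval_cases h : Nat.card (Sylow 3 (Subgroup.centralizer ({t} : Set G))) <;> omega
  set φ := MulAction.toPermHom (Subgroup.centralizer ({t} : Set G)) (Sylow 3 (Subgroup.centralizer ({t} : Set G)))
  have htker : t' ∈ φ.ker := by
    rw [MonoidHom.mem_ker]
    refine Equiv.ext fun U => ?_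
    show t' • U = U
    rw [Sylow.smul_eq_iff_mem_normalizer]
    refine Subgroup.mem_normalizer_iff.2 fun h => ?_
    rw [htc, mul_inv_cancel_right]
  have hkN : ∀ k ∈ φ.ker, ∀ U : (Sylow 3 (Subgroup.centralizer ({t} : Set G))),
      k ∈ Subgroup.normalizer (U : Set (Subgroup.centralizer ({t} : Set G))) := fun k hk U => by
    rw [← Sylow.smul_eq_iff_mem_normalizer]
    exact Equiv.ext_iff.1 (MonoidHom.mem_ker.1 hk) U
  have hker3 : ∀ U : (Sylow 3 (Subgroup.centralizer ({t} : Set G))), φ.ker ⊓ (U : Subgroup (Subgroup.centralizer ({t} : Set G))) = ⊥ := by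
    intro U
    by_contra hne
    have hUle : (U : Subgroup (Subgroup.centralizer ({t} : Set G))) ≤ φ.ker := by
      have hd : Nat.card (φ.ker ⊓ (U : Subgroup (Subgroup.centralizer ({t} : Set G))) : Subgroup _) ∣ 3 :=
        (Subgroup.card_dvd_of_le inf_le_right).trans (dvd_of_eq (hcard U))
      rcases (Nat.dvd_prime (by norm_num)).1 hd with e | e
      · exact absurd (Subgroup.card_eq_one.1 e) hne
      · exact inf_eq_right.1 (Subgroup.eq_of_le_of_card_ge inf_le_right (by rw [hcard U, e]))
    haveI : Subsingleton (Sylow 3 (Subgroup.centralizer ({t} : Set G))) := ⟨fun V W => by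
      have key : ∀ V : (Sylow 3 (Subgroup.centralizer ({t} : Set G))), (U : Subgroup (Subgroup.centralizer ({t} : Set G))) ≤ (V : Subgroup (Subgroup.centralizer ({t} : Set G))) := fun V x hx => by
        have h := U.isPGroup'.inf_normalizer_sylow V
        have hxm : x ∈ (U : Subgroup (Subgroup.centralizer ({t} : Set G))) ⊓ Subgroup.normalizer (V : Set _) :=
          ⟨hx, hkN x (hUle hx) V⟩
        rw [h] at hxm
        exact hxm.2
      have hV := Subgroup.eq_of_le_of_card_ge (key V) (by rw [hcard V, hcard U])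
      have hW := Subgroup.eq_of_le_of_card_ge (key W) (by rw [hcard W, hcard U])
      exact Sylow.ext (hV.symm.trans hW)⟩
    have := Nat.card_unique (α := (Sylow 3 (Subgroup.centralizer ({t} : Set G))))
    omega
  have hK2 : Nat.card φ.ker = 2 := by
    obtain ⟨u, hUu, hu3⟩ := hgen U₀
    have hcomm : ∀ k ∈ φ.ker, k * u = u * k := fun k hk => by
      have h1 : k * u * k⁻¹ * u⁻¹ ∈ φ.ker ⊓ (U₀ : Subgroup (Subgroup.centralizer ({t} : Set G))) := by
        refine ⟨?_, ?_⟩
        · rw [show k * u * k⁻¹ * u⁻¹ = k * (u * k⁻¹ * u⁻¹) by group]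
          exact mul_mem hk ((MonoidHom.normal_ker φ).conj_mem _ (inv_mem hk) u)
        · have := (Subgroup.mem_normalizer_iff.1 (hkN k hk U₀) u).1 (hUu ▸ Subgroup.mem_zpowers u)
          exact Subgroup.mul_mem _ this (Subgroup.inv_mem _ (hUu ▸ Subgroup.mem_zpowers u))
      rw [hker3 U₀, Subgroup.mem_bot, mul_inv_eq_one, mul_inv_eq_iff_eq_mul] at h1
      exact h1
    have h4 : ¬ 4 ∣ Nat.card φ.ker := by
      rw [Nat.card_congr (Subgroup.equivMapOfInjective φ.ker _ (Subgroup.subtype_injective _)).toEquiv]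
      refine three_part hG D hu3 _ ?_
      rintro z ⟨z, hz, rfl⟩
      rw [Subgroup.mem_centralizer_singleton_iff]
      exact congrArg Subtype.val (hcomm z hz)
    have h2 : 2 ∣ Nat.card φ.ker := by
      rw [← ht', ← Nat.card_zpowers]; exact Subgroup.card_dvd_of_le (Subgroup.zpowers_le.2 htker)
    have h3 : ¬ 3 ∣ Nat.card φ.ker := by
      intro h3
      obtain ⟨⟨k, hk⟩, hko⟩ := exists_prime_orderOf_dvd_card' (G := φ.ker) 3 h3
      rw [Subgroup.orderOf_mk] at hko
      obtain ⟨V, hV⟩ := (IsPGroup.of_card (p := 3) (n := 1) (G := Subgroup.zpowers k)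
        (by rw [Nat.card_zpowers, hko, pow_one])).exists_le_sylow
      have : k ∈ φ.ker ⊓ (V : Subgroup (Subgroup.centralizer ({t} : Set G))) := ⟨hk, hV (Subgroup.mem_zpowers k)⟩
      rw [hker3 V, Subgroup.mem_bot] at this
      rw [this, orderOf_one] at hko
      norm_num at hko
    have h48 : Nat.card φ.ker ∣ 48 := hC ▸ Subgroup.card_subgroup_dvd_card _
    have := Nat.le_of_dvd (by norm_num) h48
    interval_cases h : Nat.card φ.ker <;> omega
  have hK : ∀ k ∈ φ.ker, k = 1 ∨ k = t' := by
    intro k hk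
    have he : φ.ker = Subgroup.zpowers t' :=
      (Subgroup.eq_of_le_of_card_ge (Subgroup.zpowers_le.2 htker) (by rw [hK2, Nat.card_zpowers, ht'])).symm
    rw [he] at hk
    obtain ⟨m, rfl⟩ := mem_powers_iff_mem_zpowers.2 hk
    rcases Nat.mod_two_eq_zero_or_one m with e | e <;>
      [left; right] <;> (show t' ^ m = _; rw [← pow_mod_orderOf, ht', e]; simp)
  obtain ⟨eX⟩ : Nonempty ((Sylow 3 (Subgroup.centralizer ({t} : Set G))) ≃ Fin 4) := ⟨hX ▸ Finite.equivFin (Sylow 3 (Subgroup.centralizer ({t} : Set G)))⟩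
  set π := (Equiv.permCongrHom eX).toMonoidHom.comp φ
  have hπker : π.ker = φ.ker := by
    ext k
    simp only [π, MonoidHom.mem_ker, MonoidHom.comp_apply, MulEquiv.coe_toMonoidHom, MulEquiv.map_eq_one_iff]
  have hsurj : Function.Surjective π := by
    rw [← MonoidHom.range_eq_top]
    refine Subgroup.eq_top_of_card_eq _ ?_
    have h := Subgroup.card_mul_index π.ker
    rw [Subgroup.index_ker, hπker, hK2, hC] at h
    rw [Nat.card_eq_fintype_card (α := Equiv.Perm (Fin 4)), Fintype.card_perm, Fintype.card_fin]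
    norm_num [Nat.factorial] at h ⊢
    omega
  set Q' := klein.comap π
  have hQ'8 : Nat.card Q' = 8 := by
    have h1 := Subgroup.index_comap_of_surjective klein hsurj
    have h2 := Subgroup.card_mul_index Q'
    have h3 := Subgroup.card_mul_index klein
    rw [card_klein, Nat.card_eq_fintype_card (α := Equiv.Perm (Fin 4)), Fintype.card_perm, Fintype.card_fin] at h3
    norm_num [Nat.factorial] at h3
    rw [h1, hC] at h2
    have h4 : klein.index = 6 := by omega
    rw [h4] at h2
    omega
  have hsq : ∀ q ∈ Q', q * q = 1 ∨ q * q = t' := fun q hq => hK _ (by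
    rw [← hπker, MonoidHom.mem_ker, map_mul]; exact klein_sq _ hq)
  have hout : ∀ q ∈ Q', q ∉ φ.ker → q * q = t' := by
    intro q hq hqk
    refine (hsq q hq).resolve_left fun h1 => ?_
    refine no_elementary hG (Q'.map (Subgroup.subtype _))
      (by rw [← Nat.card_congr (Q'.equivMapOfInjective _ (Subgroup.subtype_injective _)).toEquiv, hQ'8]) ?_
    rintro - ⟨r, hr, rfl⟩
    rw [← map_mul, show r * r = 1 from ?_, map_one]
    have ht1 : t' * t' = 1 := by rw [← sq, ← ht', pow_orderOf_eq_one]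
    by_cases hrk : r ∈ φ.ker
    · rcases hK r hrk with rfl | rfl
      · rw [one_mul]
      · exact ht1
    · rw [← hπker, MonoidHom.mem_ker] at hqk hrk
      obtain ⟨g, hg⟩ := klein_conj (π q) (π r) hq hr hqk hrk
      obtain ⟨g, rfl⟩ := hsurj g
      have hk : (g * q * g⁻¹)⁻¹ * r ∈ φ.ker := by
        rw [← hπker, MonoidHom.mem_ker, map_mul, map_inv, map_mul, map_mul, map_inv, hg, inv_mul_cancel]
      have hcc : (g * q * g⁻¹) * (g * q * g⁻¹) = 1 := by
        rw [show (g * q * g⁻¹) * (g * q * g⁻¹) = g * (q * q) * g⁻¹ by group, h1, mul_one, mul_inv_cancel]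
      rcases hK _ hk with e | e
      · rw [inv_mul_eq_one] at e
        rw [← e, hcc]
      · rw [inv_mul_eq_iff_eq_mul] at e
        have hct : Commute (g * q * g⁻¹) t' := (htc _).symm
        rw [e, hct.symm.mul_mul_mul_comm, hcc, ht1, one_mul]
  have hclass : ∀ q ∈ Q', q = 1 ∨ q = t' ∨ (orderOf (q : G) = 4 ∧ (q : G) ^ 2 = t) := by
    intro q hq
    by_cases hk : q ∈ φ.ker
    · rcases hK q hk with e | e
      · exact Or.inl e
      · exact Or.inr (Or.inl e)
    · have h := congrArg Subtype.val (hout q hq hk)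
      change (q : G) * q = t at h
      refine Or.inr (Or.inr ⟨?_, by rw [sq, h]⟩)
      refine orderOf_eq_prime_pow (p := 2) (n := 1) ?_ ?_
      · rw [pow_one, sq, h]
        intro e
        rw [e, orderOf_one] at ht2
        norm_num at ht2
      · rw [show 2 ^ (1 + 1) = 2 * 2 from rfl, pow_mul, sq (q : G), h, ← ht2, pow_orderOf_eq_one]
  obtain ⟨q₀, hq₀, hq₀k⟩ : ∃ q ∈ Q', q ∉ φ.ker := by
    by_contra hno
    push Not at hno
    have := Subgroup.card_dvd_of_le (show Q' ≤ φ.ker from hno)
    rw [hQ'8, hK2] at this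
    norm_num at this
  obtain ⟨hq4, hq2⟩ : orderOf (q₀ : G) = 4 ∧ (q₀ : G) ^ 2 = t := by
    rcases hclass q₀ hq₀ with e | e | e
    · exact absurd (e ▸ one_mem _) hq₀k
    · exact absurd (e ▸ htker) hq₀k
    · exact e
  obtain ⟨g, hg⟩ := isConj_iff.1 (isConj_four hG D hq4 hf)
  have hgt : g * t * g⁻¹ = t := by
    rw [show g * t * g⁻¹ = (g * q₀ * g⁻¹) ^ 2 by rw [conj_pow, hq2], hg, ht]
  set Q := (Q'.map (Subgroup.subtype _)).map (MulAut.conj g).toMonoidHom
  refine ⟨Q, ?_, ⟨q₀, ⟨q₀, hq₀, rfl⟩, hg⟩, ?_⟩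
  · rw [← Nat.card_congr (Subgroup.equivMapOfInjective _ _ (MulEquiv.injective _)).toEquiv,
      ← Nat.card_congr (Subgroup.equivMapOfInjective _ _ (Subgroup.subtype_injective _)).toEquiv, hQ'8]
  · rintro - ⟨-, ⟨r, hr, rfl⟩, rfl⟩
    simp only [MulEquiv.coe_toMonoidHom, MulAut.conj_apply, Subgroup.coe_subtype]
    rcases hclass r hr with rfl | rfl | ⟨h4, h2⟩
    · left; simp
    · right; left; exact hgt
    · right; right
      refine ⟨?_, by rw [conj_pow, h2, hgt]⟩
      rw [← h4]
      exact orderOf_injective (MulAut.conj g).toMonoidHom (MulEquiv.injective _) _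

end CfsgLib.MEleven
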