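import Cfsg.Agent.MEleven.Four

/-!
# Sylow 3-subgroups of a simple group of order 7920

`cent_three` : centralisers of nontrivial 3-elements have order 9 or 18;
`card_normalizer_three` : the normaliser of a Sylow 3-subgroup has order 144.
-/

set_option autoImplicit false
set_option linter.style.haveILetI false

open Cfsg CfsgLib CfsgLib.SmallOrd CfsgLib.CharBasics

namespace CfsgLib.MEleven

universe u

variable {G : Type u} [Group G] [Finite G] [IsSimpleGroup G]

theorem cent_three (hG : Nat.card G = 7920) (D : Data G) [Fact (Nat.Prime 3)] (P : Sylow 3 G) {z : G}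
    (hz : z ∈ (P : Subgroup G)) (hz1 : z ≠ 1) :
    Nat.card (Subgroup.centralizer ({z} : Set G)) = 9 ∨ Nat.card (Subgroup.centralizer ({z} : Set G)) = 18 := by
  obtain ⟨h9, hc⟩ := sylow_three hG P
  have ho : orderOf z ∣ 3 ^ 2 := by
    have := orderOf_dvd_natCard (⟨z, hz⟩ : (P : Subgroup G))
    rw [h9, Subgroup.orderOf_mk] at this
    exact this
  obtain ⟨i, hi, he⟩ := (Nat.dvd_prime_pow (by norm_num)).1 ho
  have h0 : i ≠ 0 := fun e => hz1 (orderOf_eq_one_iff.1 (by rw [he, e, pow_zero]))
  have hd : Nat.card (Subgroup.centralizer ({z} : Set G)) ∣ 144 :=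
    cent_dvd hG hz1 (by rw [he]; interval_cases i <;> norm_num) (by rw [he]; interval_cases i <;> norm_num)
  have h9d : 9 ∣ Nat.card (Subgroup.centralizer ({z} : Set G)) :=
    h9 ▸ Subgroup.card_dvd_of_le (le_cent_of_comm hc hz)
  have h4 : ¬ 4 ∣ Nat.card (Subgroup.centralizer ({z} : Set G)) := by
    intro h4
    haveI : Fact (Nat.Prime 2) := ⟨by norm_num⟩
    set u := z ^ 3 ^ (i - 1) with hu
    have huo : orderOf u = 3 := by
      rw [hu, orderOf_pow, he]
      interval_cases i
      · exact absurd rfl h0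
      · norm_num
      · norm_num
    obtain ⟨K, hK⟩ := Sylow.exists_subgroup_card_pow_prime 2 (n := 2)
      (G := Subgroup.centralizer ({z} : Set G)) (by simpa using h4)
    refine no_four hG D huo (K.map (Subgroup.subtype _))
      (by rw [Nat.card_congr (K.equivMapOfInjective _ (Subgroup.subtype_injective _)).symm.toEquiv, hK]; norm_num) ?_
    rintro - ⟨k, -, rfl⟩
    rw [Subgroup.mem_centralizer_singleton_iff, hu]
    exact (Commute.pow_right (Subgroup.mem_centralizer_singleton_iff.1 k.2) _).eq
  obtain ⟨c, hc'⟩ := h9d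
  rw [hc'] at hd h4 ⊢
  have hc16 : c ∣ 16 := Nat.dvd_of_mul_dvd_mul_left (show 0 < 9 by norm_num) (by simpa using hd)
  obtain ⟨j, hj, rfl⟩ := (Nat.dvd_prime_pow (show Nat.Prime 2 by norm_num)).1 (show c ∣ 2 ^ 4 from hc16)
  interval_cases j <;> first | (norm_num at h4; done) | norm_num

set_option maxHeartbeats 1000000 in
theorem card_normalizer_three (hG : Nat.card G = 7920) [Fact (Nat.Prime 3)] (P : Sylow 3 G) :
    Nat.card (Subgroup.normalizer ((P : Subgroup G) : Set G)) = 144 := by
  classical
  haveI := Fintype.ofFinite G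
  haveI := Fintype.ofFinite (ConjClasses G)
  haveI : Fact (Nat.Prime 2) := ⟨by norm_num⟩
  haveI : Fact (Nat.Prime 5) := ⟨by norm_num⟩
  haveI : Fact (Nat.Prime 11) := ⟨by norm_num⟩
  obtain ⟨D⟩ := exists_data hG
  obtain ⟨h9, hc9⟩ := sylow_three hG P
  set n := Nat.card (Sylow 3 G)
  set N := Nat.card (Subgroup.normalizer ((P : Subgroup G) : Set G))
  have hmul : N * n = 7920 := by
    show N * Nat.card (Sylow 3 G) = 7920
    rw [P.card_eq_index_normalizer, ← hG]
    exact Subgroup.card_mul_index _
  have hmod : n % 3 = 1 := by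
    have h := card_sylow_modEq_one 3 G
    exact h
  -- five and eleven do not divide the normaliser
  have hnot : ∀ q : ℕ, q = 5 ∨ q = 11 → ¬ q ∣ N := by
    intro q hq hd
    haveI : Fact q.Prime := ⟨by rcases hq with rfl | rfl <;> norm_num⟩
    obtain ⟨⟨x, hx⟩, hxo⟩ := exists_prime_orderOf_dvd_card' (G := Subgroup.normalizer ((P : Subgroup G) : Set G)) q hd
    rw [Subgroup.orderOf_mk] at hxo
    set Z := Subgroup.zpowers x
    have hle : Z ≤ Subgroup.normalizer ((P : Subgroup G) : Set G) := Subgroup.zpowers_le.2 hx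
    obtain ⟨w, hw, hw1, hfix⟩ : ∃ w ∈ (P : Subgroup G), w ≠ 1 ∧ x * w * x⁻¹ = w := by
      haveI := Fintype.ofFinite (P : Subgroup G)
      let a : Equiv.Perm {w : (P : Subgroup G) // w ≠ 1} :=
        { toFun := fun w => ⟨⟨x * w.1 * x⁻¹, (Subgroup.mem_normalizer_iff.1 hx _).1 w.1.2⟩, fun e => w.2 (by
            have e' : x * (w.1 : G) * x⁻¹ = 1 := congrArg Subtype.val e
            exact Subtype.ext (conj_eq_one_iff.1 e'))⟩
          invFun := fun w => ⟨⟨x⁻¹ * w.1 * x, by
              have := (Subgroup.mem_normalizer_iff.1 hx (x⁻¹ * w.1 * x)).2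
              exact this (by rw [show x * (x⁻¹ * w.1 * x) * x⁻¹ = w.1 by group]; exact w.1.2)⟩, fun e => w.2 (by
            have e' : x⁻¹ * (w.1 : G) * x = 1 := congrArg Subtype.val e
            exact Subtype.ext (by
              have : (w.1 : G) = x * (x⁻¹ * w.1 * x) * x⁻¹ := by group
              rw [this, e']; simp))⟩
          left_inv := fun w => by ext; show x⁻¹ * (x * (w.1 : G) * x⁻¹) * x = w.1; group
          right_inv := fun w => by ext; show x * (x⁻¹ * (w.1 : G) * x) * x⁻¹ = w.1; group }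
      have hiter : ∀ (k : ℕ) (w : {w : (P : Subgroup G) // w ≠ 1}), (((a ^ k) w).1 : G) = x ^ k * w.1 * (x ^ k)⁻¹ := by
        intro k w
        induction k with
        | zero => simp
        | succ k ih =>
          rw [pow_succ', Equiv.Perm.mul_apply]
          show x * (((a ^ k) w).1 : G) * x⁻¹ = _
          rw [ih, pow_succ']; group
      have haq : a ^ q ^ 1 = 1 := Equiv.ext fun w => by
        ext
        rw [hiter, pow_one, show x ^ q = 1 by rw [← hxo]; exact pow_orderOf_eq_one x, one_mul, inv_one, mul_one]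
        rfl
      have hcard : ¬ q ∣ Fintype.card {w : (P : Subgroup G) // w ≠ 1} := by
        rw [Fintype.card_subtype_compl, Fintype.card_subtype_eq, ← Nat.card_eq_fintype_card, h9]
        rcases hq with rfl | rfl <;> norm_num
      obtain ⟨⟨⟨w, hw⟩, hw1⟩, hfix⟩ := Equiv.Perm.exists_fixed_point_of_prime hcard haq
      exact ⟨w, hw, fun e => hw1 (Subtype.ext e), congrArg (fun z => (z.1 : G)) hfix⟩
    have hdq : q ∣ Nat.card (Subgroup.centralizer ({w} : Set G)) := by
      rw [← hxo, ← Nat.card_zpowers]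
      exact Subgroup.card_dvd_of_le (Subgroup.zpowers_le.2
        (Subgroup.mem_centralizer_singleton_iff.2 (mul_inv_eq_iff_eq_mul.1 hfix)))
    rcases cent_three hG D P hw hw1 with e | e <;> rw [e] at hdq <;> rcases hq with rfl | rfl <;> norm_num at hdq
  have h9N : 9 ∣ N := h9 ▸ Subgroup.card_dvd_of_le Subgroup.le_normalizer
  have hN144 : N ∣ 144 := by
    have hd : N ∣ 144 * (5 * 11) := by rw [show 144 * (5 * 11) = 7920 by norm_num, ← hmul]; exact dvd_mul_right N n
    exact (((Nat.Prime.coprime_iff_not_dvd (by norm_num)).2 (hnot 5 (Or.inl rfl))).symm.mul_right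
      ((Nat.Prime.coprime_iff_not_dvd (by norm_num)).2 (hnot 11 (Or.inr rfl))).symm).dvd_of_dvd_mul_right hd
  have hnine : N ≠ 9 := by
    intro e
    refine not_normalizer_le_centralizer P ?_ ?_ ?_
    · intro h; rw [h, Subgroup.card_bot] at h9; norm_num at h9
    · intro h; rw [h, Subgroup.card_top, hG] at h9; norm_num at h9
    · have hNP : Subgroup.normalizer ((P : Subgroup G) : Set G) = P :=
        (Subgroup.eq_of_le_of_card_ge Subgroup.le_normalizer (e.trans h9.symm).le).symm
      rw [hNP]
      haveI := hc9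
      exact Subgroup.le_centralizer _
  have hNn : N = 144 ∨ N = 36 := by
    obtain ⟨c, hcN⟩ := h9N
    have hc16 : c ∣ 2 ^ 4 := Nat.dvd_of_mul_dvd_mul_left (show 0 < 9 by norm_num) (by rw [← hcN]; exact hN144)
    obtain ⟨j, hj, rfl⟩ := (Nat.dvd_prime_pow (show Nat.Prime 2 by norm_num)).1 hc16
    interval_cases j <;> norm_num at hcN <;> rw [hcN] at hmul hnine ⊢ <;> omega
  refine hNn.resolve_right fun h36 => ?_
  have hn : n = 220 := by rw [h36] at hmul; omega
  -- trivial intersections
  have hTI : ∀ (Q R : Sylow 3 G) (z : G), z ≠ 1 → z ∈ (Q : Subgroup G) → z ∈ (R : Subgroup G) → Q = R := by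
    intro Q R z hz1 hzQ hzR
    have hQC := le_cent_of_comm (sylow_three hG Q).2 hzQ
    have hRC := le_cent_of_comm (sylow_three hG R).2 hzR
    set C := Subgroup.centralizer ({z} : Set G)
    have hsub : Subsingleton (Sylow 3 C) := by
      have hc : Nat.card C = 9 ∨ Nat.card C = 18 := cent_three hG D Q hzQ hz1
      have h := (Q.subtype hQC).card_dvd_index
      have hm : Nat.card (Sylow 3 C) % 3 = 1 := by simpa [Nat.ModEq] using card_sylow_modEq_one 3 C
      have hci := Subgroup.card_mul_index ((Q.subtype hQC : Sylow 3 C) : Subgroup C)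
      have hQ9 : Nat.card ((Q.subtype hQC : Sylow 3 C) : Subgroup C) = 9 := by
        rw [show ((Q.subtype hQC : Sylow 3 C) : Subgroup C) = (Q : Subgroup G).subgroupOf C from rfl,
          Nat.card_congr (Subgroup.subgroupOfEquivOfLe hQC).toEquiv]
        exact (sylow_three hG Q).1
      rw [hQ9] at hci
      have hle : ((Q.subtype hQC : Sylow 3 C) : Subgroup C).index ≤ 2 := by rcases hc with e | e <;> omega
      have hpos : 0 < ((Q.subtype hQC : Sylow 3 C) : Subgroup C).index := Nat.pos_of_ne_zero Subgroup.index_ne_zero_of_finite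
      have := Nat.le_of_dvd hpos h
      exact (Nat.card_eq_one_iff_unique.1 (by omega)).1
    exact Sylow.subtype_injective (hP := hQC) (hQ := hRC) (hsub.elim _ _)
  set W : Finset G := Finset.univ.filter fun z => z ≠ 1 ∧ ∃ Q : Sylow 3 G, z ∈ (Q : Subgroup G) with hW
  have hWcard : W.card = 1760 := by
    haveI := Fintype.ofFinite (Sylow 3 G)
    have hWeq : W = Finset.univ.biUnion fun Q : Sylow 3 G =>
        Finset.univ.filter fun z => z ≠ 1 ∧ z ∈ (Q : Subgroup G) := by
      ext z; simp [W]
    rw [hWeq, Finset.card_biUnion]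
    · rw [Finset.sum_congr rfl (fun Q _ => show _ = 8 from by
        haveI := Fintype.ofFinite (Q : Subgroup G)
        have : (Finset.univ.filter fun z => z ≠ 1 ∧ z ∈ (Q : Subgroup G)) =
            (Finset.univ.filter fun z => z ∈ (Q : Subgroup G)).erase 1 := by ext z; simp [and_comm]
        rw [this, Finset.card_erase_of_mem (by simp [one_mem]), ← Fintype.card_subtype, ← Nat.card_eq_fintype_card]
        show Nat.card (Q : Subgroup G) - 1 = 8
        rw [(sylow_three hG Q).1]), Finset.sum_const, Finset.card_univ, ← Nat.card_eq_fintype_card,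
        show Nat.card (Sylow 3 G) = 220 from hn]
      rfl
    · intro Q _ R _ hne
      rw [Function.onFun, Finset.disjoint_left]
      intro z hz hz'
      simp only [Finset.mem_filter] at hz hz'
      exact hne (hTI Q R z hz.2.1 hz.2.2 hz'.2.2)
  -- representatives
  obtain ⟨x, hx⟩ : ∃ x : G, orderOf x = 5 := exists_prime_orderOf_dvd_card' 5 (by rw [hG]; norm_num)
  obtain ⟨y, hy⟩ : ∃ y : G, orderOf y = 11 := exists_prime_orderOf_dvd_card' 11 (by rw [hG]; norm_num)
  obtain ⟨s, hs⟩ : ∃ s : G, orderOf s = 2 := exists_prime_orderOf_dvd_card' 2 (by rw [hG]; norm_num)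
  obtain ⟨Q5⟩ : Nonempty (Sylow 5 G) := inferInstance
  obtain ⟨f, -, hf⟩ := exists_four hG Q5
  obtain ⟨hns, -⟩ := invol hG D hs
  obtain ⟨⟨u, huC⟩, hu⟩ := exists_prime_orderOf_dvd_card' (G := Subgroup.centralizer ({s} : Set G)) 3
    (by rw [hns]; norm_num)
  rw [Subgroup.orderOf_mk] at hu
  have hcom : Commute u s := Subgroup.mem_centralizer_singleton_iff.1 huC
  have hsu : orderOf (s * u) = 6 := by
    rw [hcom.symm.orderOf_mul_eq_mul_orderOf_of_coprime (by rw [hs, hu]; norm_num), hs, hu]
  obtain ⟨Qu, hQu⟩ := (IsPGroup.of_card (p := 3) (n := 1) (G := Subgroup.zpowers u)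
    (by rw [Nat.card_zpowers, hu, pow_one])).exists_le_sylow
  have huQ := hQu (Subgroup.mem_zpowers u)
  have hu1 : u ≠ 1 := fun e => by rw [e, orderOf_one] at hu; norm_num at hu
  have hu18 : Nat.card (Subgroup.centralizer ({u} : Set G)) = 18 := by
    refine (cent_three hG D Qu huQ hu1).resolve_left fun e => ?_
    have h2 : 2 ∣ Nat.card (Subgroup.centralizer ({u} : Set G)) := by
      rw [← hs, ← Nat.card_zpowers]
      exact Subgroup.card_dvd_of_le (Subgroup.zpowers_le.2 (Subgroup.mem_centralizer_singleton_iff.2 hcom.symm.eq))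
    rw [e] at h2
    norm_num at h2
  let L : List (G × ℕ) := [(1, 7920), (s, 48), (x, 5), (y, 11), (y⁻¹, 11), (f, 8), (s * u, 6)]
  have hyi : orderOf y⁻¹ = 11 := by rw [orderOf_inv, hy]
  have hL : ∀ z ∈ L, z.2 ≤ Nat.card (Subgroup.centralizer ({z.1} : Set G)) := by
    intro z hz
    simp only [L, List.mem_cons, List.not_mem_nil, or_false] at hz
    rcases hz with rfl | rfl | rfl | rfl | rfl | rfl | rfl
    · rw [← hG]
      exact le_of_eq (Nat.card_congr (Equiv.subtypeUnivEquiv fun z => by
        simp [Subgroup.mem_centralizer_singleton_iff]).symm)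
    · exact le_of_eq hns.symm
    · exact le_of_eq (by rw [cent_five hG hx, Nat.card_zpowers, hx])
    · exact le_of_eq (by rw [cent_eleven hG hy, Nat.card_zpowers, hy])
    · exact le_of_eq (by rw [cent_eleven hG hyi, Nat.card_zpowers, hyi])
    · exact eight_le hG D hf
    · have := Subgroup.card_le_of_le (Subgroup.zpowers_le.2 (mem_cent_self (s * u)))
      rw [Nat.card_zpowers, hsu] at this
      exact this
  let S : List (ConjClasses G) := L.map fun z => ConjClasses.mk z.1
  have hSn : S.Nodup := by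
    have ho : ∀ {a b : G}, orderOf a ≠ orderOf b → ConjClasses.mk a ≠ ConjClasses.mk b := fun h e =>
      h (orderOf_of_isConj (ConjClasses.mk_eq_mk_iff_isConj.1 e))
    have hyy : ConjClasses.mk y ≠ ConjClasses.mk y⁻¹ := fun e =>
      not_isConj_inv_eleven hG hy (ConjClasses.mk_eq_mk_iff_isConj.1 e)
    simp only [S, L, List.map_cons, List.map_nil, List.nodup_cons, List.mem_cons, List.not_mem_nil, or_false,
      not_or, List.nodup_nil, and_true, not_false_eq_true]
    and_intros
    all_goals first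
      | exact hyy
      | exact ho (by omega)
      | exact ho (by rw [orderOf_one]; omega)
  set Wc : Finset (ConjClasses G) := W.image ConjClasses.mk
  have hWinv : ∀ z w : G, z ∈ W → IsConj z w → w ∈ W := by
    intro z w hz hzw
    obtain ⟨c, rfl⟩ := isConj_iff.1 hzw
    simp only [W, Finset.mem_filter, Finset.mem_univ, true_and] at hz ⊢
    obtain ⟨hz1, Q, hQ⟩ := hz
    refine ⟨fun e => hz1 (conj_eq_one_iff.1 e), c • Q, ?_⟩
    rw [Sylow.coe_subgroup_smul]
    exact ⟨z, hQ, rfl⟩
  have hfib : ∑ C ∈ Wc, Nat.card C.carrier = 1760 := by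
    rw [← hWcard, Finset.card_eq_sum_card_image ConjClasses.mk W]
    refine Finset.sum_congr rfl fun C hC => ?_
    obtain ⟨z, hz, rfl⟩ := Finset.mem_image.1 hC
    rw [Nat.card_coe_set_eq, Set.ncard_eq_toFinset_card']
    congr 1
    ext w
    rw [Set.mem_toFinset, ConjClasses.mem_carrier_iff_mk_eq, Finset.mem_filter]
    exact ⟨fun e => ⟨hWinv z w hz (ConjClasses.mk_eq_mk_iff_isConj.1 e.symm), e⟩, fun h => h.2⟩
  have hmkle : ∀ C ∈ Wc, Nat.card C.carrier ≤ 880 := by
    intro C hC
    obtain ⟨z, hz, rfl⟩ := Finset.mem_image.1 hC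
    simp only [W, Finset.mem_filter, Finset.mem_univ, true_and] at hz
    obtain ⟨hz1, Q, hQ⟩ := hz
    have h := class_le (k := 9) (by rcases cent_three hG D Q hQ hz1 with e | e <;> omega : 9 ≤ Nat.card (Subgroup.centralizer ({z} : Set G)))
    rw [hG] at h
    omega
  have huW : ConjClasses.mk u ∈ Wc :=
    Finset.mem_image_of_mem _ (Finset.mem_filter.2 ⟨Finset.mem_univ _, hu1, Qu, huQ⟩)
  have hk3 : 3 ≤ Wc.card := by
    have h1 := Finset.sum_erase_add Wc (fun C => Nat.card C.carrier) huW
    rw [hfib] at h1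
    have h2 := Finset.sum_le_card_nsmul (Wc.erase (ConjClasses.mk u)) (fun C => Nat.card C.carrier) 880
      (fun C hC => hmkle C (Finset.mem_of_mem_erase hC))
    rw [Finset.card_erase_of_mem huW, smul_eq_mul] at h2
    have h3 := class_le (g := u) (k := 18) hu18.ge
    rw [hG] at h3
    omega
  have hdis : Disjoint S.toFinset Wc := by
    rw [Finset.disjoint_left]
    intro C hC hCW
    obtain ⟨z, hz, rfl⟩ := Finset.mem_image.1 hCW
    simp only [W, Finset.mem_filter, Finset.mem_univ, true_and] at hz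
    obtain ⟨hz1, Q, hQ⟩ := hz
    have h39 : orderOf z = 3 ∨ orderOf z = 9 := by
      have h := orderOf_dvd_natCard (⟨z, hQ⟩ : (Q : Subgroup G))
      rw [(sylow_three hG Q).1, Subgroup.orderOf_mk] at h
      obtain ⟨j, hj, he⟩ := (Nat.dvd_prime_pow (show Nat.Prime 3 by norm_num)).1 (show orderOf z ∣ 3 ^ 2 from h)
      interval_cases j
      · exact absurd (orderOf_eq_one_iff.1 he) hz1
      · exact Or.inl he
      · exact Or.inr he
    simp only [List.mem_toFinset, S, L, List.map_cons, List.map_nil, List.mem_cons, List.not_mem_nil, or_false] at hC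
    rcases hC with e | e | e | e | e | e | e <;>
      (have ho := orderOf_of_isConj (ConjClasses.mk_eq_mk_iff_isConj.1 e)
       simp only [orderOf_one, hs, hx, hy, hyi, hf, hsu] at ho
       omega)
  have hten : Fintype.card (ConjClasses G) = 10 := by
    rw [← Nat.card_eq_fintype_card, ← card_irr, (Cfsg.Agent.S4429.result hG).1]
  have hS7 : S.toFinset.card = 7 := by rw [List.toFinset_card_of_nodup hSn]; rfl
  have huniv : S.toFinset ∪ Wc = Finset.univ := by
    refine Finset.eq_univ_of_card _ (le_antisymm (Finset.card_le_univ _) ?_)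
    rw [Finset.card_union_of_disjoint hdis, hten, hS7]
    omega
  have htot : ∑ C : ConjClasses G, Nat.card C.carrier = 7920 := by
    rw [← hG, Nat.card_eq_fintype_card (α := G), ← sum_conjClasses_card_eq_card]
    exact Finset.sum_congr rfl fun C _ => by rw [Nat.card_coe_set_eq, Set.ncard_eq_toFinset_card']
  rw [← huniv, Finset.sum_union hdis, hfib, List.sum_toFinset _ hSn] at htot
  have b : ∀ z ∈ L, Nat.card (ConjClasses.mk z.1).carrier * z.2 ≤ 7920 := fun z hz => hG ▸ class_le (hL z hz)
  simp only [L, List.forall_mem_cons] at b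
  obtain ⟨b1, b2, b3, b4, b5, b6, b7, -⟩ := b
  simp only [S, L, List.map_cons, List.map_nil, List.sum_cons, List.sum_nil] at htot
  omega

end CfsgLib.MEleven
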